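import Groth.Agent.H24.NodeRing.Core
import Mathlib.RingTheory.AdicCompletion.Basic
import Mathlib.RingTheory.MvPowerSeries.NoZeroDivisors

/-!
# Normal forms in `R[[x, y]]/(xy - r)`
-/

set_option autoImplicit false
set_option linter.style.haveILetI false

universe u

open MvPowerSeries

namespace Groth.Agent.H24.NodeRing

variable {R : Type u} [CommRing R]

theorem coeff_axes (a b : ℕ → R) (d : Fin 2 →₀ ℕ) :
    coeff d (axes a b) =
      if d 1 = 0 then a (d 0) else if d 0 = 0 then b (d 1 - 1) else 0 := by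
  classical
  rw [axes, map_add, coeff_ser, MvPowerSeries.X, coeff_monomial_mul, coeff_ser]
  simp only [Finsupp.single_le_iff, one_mul, Finsupp.tsub_apply, Finsupp.single_apply, Fin.isValue,
    show (1 - 0 : Fin 2) = 1 from rfl, show (1 - 1 : Fin 2) = 0 from rfl, zero_ne_one, one_ne_zero,
    if_true, if_false, Nat.sub_zero]
  by_cases h1 : d 1 = 0
  · simp [h1]
  · simp [h1, Nat.one_le_iff_ne_zero]

theorem coeff_X0X1_mul (h : MvPowerSeries (Fin 2) R) (d : Fin 2 →₀ ℕ) :
    coeff d (X 0 * X 1 * h) =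
      if 1 ≤ d 0 ∧ 1 ≤ d 1 then coeff (d - (Finsupp.single 0 1 + Finsupp.single 1 1)) h else 0 := by
  classical
  rw [MvPowerSeries.X, MvPowerSeries.X, monomial_mul_monomial, coeff_monomial_mul, one_mul, one_mul]
  refine if_congr ?_ rfl rfl
  constructor
  · intro hle
    have h0 := hle 0
    have h1 := hle 1
    simp [Finsupp.single_apply] at h0 h1
    omega
  · intro ⟨h0, h1⟩ i
    fin_cases i <;> simp [Finsupp.single_apply] <;> omega

/-- Every series is, modulo `xy - r`, supported on the axes. -/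
theorem exists_axes (I : Ideal R) [IsAdicComplete I R] {r : R} (hr : r ∈ I)
    (f : MvPowerSeries (Fin 2) R) :
    ∃ a b : ℕ → R, f - axes a b ∈ Ideal.span {rel r} := by
  classical
  let e : Fin 2 →₀ ℕ := Finsupp.single 0 1 + Finsupp.single 1 1
  let s : ℕ → (Fin 2 →₀ ℕ) → R := fun n d => ∑ k ∈ Finset.range n, r ^ k * coeff (d + k • e) f
  have hs : ∀ n d, s (n + 1) d = coeff d f + r * s n (d + e) := by
    intro n d
    simp only [s]
    rw [Finset.sum_range_succ', zero_smul, add_zero, pow_zero, one_mul, add_comm, Finset.mul_sum]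
    congr 1
    refine Finset.sum_congr rfl fun k _ => ?_
    rw [pow_succ', mul_assoc, succ_nsmul', ← add_assoc d]
  have hstep : ∀ n d, s (n + 1) d - s n d ∈ I ^ n := by
    intro n d
    simp only [s, Finset.sum_range_succ, add_sub_cancel_left]
    exact Ideal.mul_mem_right _ _ (Ideal.pow_mem_pow hr n)
  have hlim : ∀ d, ∃ g : R, ∀ n, s n d - g ∈ I ^ n := by
    intro d
    obtain ⟨g, hg⟩ := IsPrecomplete.prec inferInstance (I := I) (f := fun n => s n d)
      fun {m n} hmn => by
        rw [SModEq.sub_mem, smul_eq_mul, Ideal.mul_top]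
        induction n, hmn using Nat.le_induction with
        | base => simp
        | succ k hk ih =>
          rw [← sub_add_sub_cancel _ (s k d) _, ← neg_sub (s (k + 1) d) (s k d)]
          exact add_mem ih (neg_mem (Ideal.pow_le_pow_right hk (hstep k d)))
    refine ⟨g, fun n => ?_⟩
    have := hg n
    rwa [SModEq.sub_mem, smul_eq_mul, Ideal.mul_top] at this
  choose g hg using hlim
  have hgeq : ∀ d, g d = coeff d f + r * g (d + e) := by
    intro d
    rw [IsHausdorff.eq_iff_smodEq (I := I)]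
    intro n
    rw [SModEq.sub_mem, smul_eq_mul, Ideal.mul_top]
    have h1 := Ideal.pow_le_pow_right n.le_succ (hg d (n + 1))
    have h2 := Ideal.mul_mem_left _ r (hg (d + e) n)
    rw [hs] at h1
    convert sub_mem h2 h1 using 1
    ring
  let h : MvPowerSeries (Fin 2) R := fun d => g (d + e)
  refine ⟨fun m => g (Finsupp.single 0 m), fun m => g (Finsupp.single 1 (m + 1)),
    Ideal.mem_span_singleton'.2 ⟨h, ?_⟩⟩
  ext d
  have hh : coeff d h = g (d + e) := rfl
  rw [rel, mul_comm h, sub_mul, map_sub, map_sub, coeff_C_mul, coeff_X0X1_mul, hh, coeff_axes]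
  by_cases h1 : d 1 = 0
  · rw [if_neg (by omega), if_pos h1]
    have hd : d = Finsupp.single 0 (d 0) := Finsupp.ext fun i => by
      fin_cases i <;> simp [h1, Finsupp.single_apply]
    rw [← hd, hgeq d]
    ring
  · by_cases h0 : d 0 = 0
    · rw [if_neg (by omega), if_neg h1, if_pos h0, Nat.sub_add_cancel (Nat.one_le_iff_ne_zero.2 h1)]
      have hd : d = Finsupp.single 1 (d 1) := Finsupp.ext fun i => by
        fin_cases i <;> simp [h0, Finsupp.single_apply]
      rw [← hd, hgeq d]
      ring
    · rw [if_pos (by omega), if_neg h1, if_neg h0, sub_zero]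
      show g (d - e + e) - r * g (d + e) = coeff d f
      rw [tsub_add_cancel_of_le fun i => by fin_cases i <;> simp [e, Finsupp.single_apply] <;> omega,
        hgeq d]
      ring

/-- Multiplication by a prime element of the base is injective modulo `xy - r`. -/
theorem mem_of_C_mul_mem [IsDomain R] {r π : R} (hπ : Prime π) (h : MvPowerSeries (Fin 2) R)
    (hh : MvPowerSeries.C π * h ∈ Ideal.span {rel r}) : h ∈ Ideal.span {rel r} := by
  obtain ⟨g, hg⟩ := Ideal.mem_span_singleton'.1 hh
  let P := Ideal.span {π}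
  haveI : P.IsPrime := (Ideal.span_singleton_prime hπ.ne_zero).2 hπ
  let q := MvPowerSeries.map (σ := Fin 2) (Ideal.Quotient.mk P)
  have h0 := congrArg q hg
  rw [map_mul, map_mul, show q (MvPowerSeries.C π) = 0 by
    rw [MvPowerSeries.map_C, Ideal.Quotient.eq_zero_iff_mem.2 (Ideal.mem_span_singleton_self π),
      map_zero], zero_mul] at h0
  have hne : q (rel r) ≠ 0 := by
    intro h1
    have h2 := congrArg (coeff (Finsupp.single 0 1 + Finsupp.single 1 1)) h1
    rw [MvPowerSeries.coeff_map, rel, map_sub] at h2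
    rw [← mul_one (X 0 * X 1), coeff_X0X1_mul] at h2
    simp [Finsupp.single_apply] at h2
  have hdiv : ∀ d, π ∣ coeff d g := fun d => by
    have h3 := congrArg (coeff d) ((mul_eq_zero.1 h0).resolve_right hne)
    rw [MvPowerSeries.coeff_map, map_zero, Ideal.Quotient.eq_zero_iff_mem,
      Ideal.mem_span_singleton] at h3
    exact h3
  choose w hw using hdiv
  let g' : MvPowerSeries (Fin 2) R := fun d => w d
  have hgeq : g = MvPowerSeries.C π * g' := by
    ext d; rw [coeff_C_mul]; exact hw d
  refine Ideal.mem_span_singleton'.2 ⟨g', ?_⟩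
  have hC : (MvPowerSeries.C π : MvPowerSeries (Fin 2) R) ≠ 0 := fun hC => hπ.ne_zero (by
    simpa using congrArg MvPowerSeries.constantCoeff hC)
  refine mul_left_cancel₀ hC ?_
  rw [← mul_assoc, ← hgeq, hg]

theorem rel_symm (r : R) : X 0 * X 1 - MvPowerSeries.C r ∈ Ideal.span {rel r} :=
  Ideal.mem_span_singleton_self _

/-- Dividing an element on the axes by `s xⁿ`. -/
theorem exists_factor {r s : R} (n : ℕ) (a b : ℕ → R) (hhi : ∀ k, s ∣ a (n + k))
    (hlo : ∀ i, i < n → s * r ^ (n - i) ∣ a i) (hb : ∀ k, s * r ^ n ∣ b k) :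
    ∃ u : MvPowerSeries (Fin 2) R,
      axes a b - MvPowerSeries.C s * X 0 ^ n * u ∈ Ideal.span {rel r} := by
  choose ahi hahi using hhi
  choose alo halo using hlo
  choose b' hb' using hb
  let u₁ := ser 0 ahi
  let u₂ : MvPowerSeries (Fin 2) R := ∑ i : Fin n, MvPowerSeries.C (alo i i.2) * X 1 ^ (n - (i : ℕ))
  let u₃ := X 1 ^ n * (X 1 * ser 1 b')
  refine ⟨u₁ + u₂ + u₃, ?_⟩
  let J := Ideal.span {rel r}
  rw [← Ideal.Quotient.eq]
  let q := Ideal.Quotient.mk J
  have hrel : q (X 0) * q (X 1) = q (MvPowerSeries.C r) := by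
    rw [← map_mul]; exact Ideal.Quotient.eq.2 (rel_symm r)
  have hser : ∀ (i : Fin 2) (c : R) (f : ℕ → R),
      ser i (fun m => c * f m) = MvPowerSeries.C c * ser i f := by
    intro i c f
    ext d
    rw [coeff_C_mul, coeff_ser, coeff_ser, mul_ite, mul_zero]
  rw [axes, ser_sum 0 a n, show (fun m => a (n + m)) = fun m => s * ahi m from funext hahi, hser,
    show b = fun m => s * r ^ n * b' m from funext hb', hser, Finset.sum_range]
  simp only [mul_add, map_add]
  have h1 : q (X 0 ^ n * (MvPowerSeries.C s * ser 0 ahi)) =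
      q (MvPowerSeries.C s * X 0 ^ n * u₁) := by
    rw [← mul_assoc, mul_comm (X 0 ^ n)]
  have h2 : q (∑ i : Fin n, MvPowerSeries.C (a i) * X 0 ^ (i : ℕ)) =
      q (MvPowerSeries.C s * X 0 ^ n * u₂) := by
    rw [Finset.mul_sum, map_sum, map_sum]
    refine Finset.sum_congr rfl fun i _ => ?_
    have hn : n = (i : ℕ) + (n - (i : ℕ)) := by omega
    rw [halo i i.2]
    simp only [map_mul, map_pow]
    rw [← hrel, mul_pow]
    conv_rhs => enter [1, 2]; rw [hn, pow_add]
    ring
  have h3 : q (X 1 * (MvPowerSeries.C (s * r ^ n) * ser 1 b')) =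
      q (MvPowerSeries.C s * X 0 ^ n * u₃) := by
    simp only [u₃, map_mul, map_pow]
    rw [← hrel, mul_pow]
    ring
  show q _ + q _ + q _ = q _ + q _ + q _
  rw [h1, h2, h3]
  abel

end Groth.Agent.H24.NodeRing
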