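import Groth.Agent.H24.PowerSeries
import Mathlib.Algebra.Polynomial.Laurent
import Mathlib.RingTheory.DiscreteValuationRing.Basic
import Mathlib.Algebra.MonoidAlgebra.NoZeroDivisors
import Mathlib.RingTheory.Polynomial.Basic
import Mathlib.Data.Int.Interval

/-!
# Units of the ring `R[[x, y]]/(xy - r)` seen from a valuation

A point `x ↦ x₀`, `y ↦ y₀` with `x₀ y₀ = r` in a discrete valuation ring turns an element written
on the axes into a family of values indexed by `ℤ`; if the element divides a non-zero constant then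
one of these values strictly dominates all others.
-/

set_option autoImplicit false
set_option linter.style.haveILetI false

universe u

open IsLocalRing
open scoped LaurentPolynomial

namespace Groth.Agent.H24.NodeRing

variable {R : Type u} [CommRing R]

/-- `∑ aₘ xᵐ`. -/
noncomputable def ser (i : Fin 2) (a : ℕ → R) : MvPowerSeries (Fin 2) R :=
  fun d => if d (1 - i) = 0 then a (d i) else 0

theorem coeff_ser (i : Fin 2) (a : ℕ → R) (d : Fin 2 →₀ ℕ) :
    MvPowerSeries.coeff d (ser i a) = if d (1 - i) = 0 then a (d i) else 0 := rfl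

theorem ser_succ (i : Fin 2) (a : ℕ → R) :
    ser i a = MvPowerSeries.C (a 0) + MvPowerSeries.X i * ser i (fun m => a (m + 1)) := by
  classical
  ext d
  rw [coeff_ser, map_add, MvPowerSeries.coeff_C, MvPowerSeries.X, MvPowerSeries.coeff_monomial_mul,
    coeff_ser, one_mul]
  simp only [Finsupp.single_le_iff]
  have hne : (1 - i : Fin 2) ≠ i := by fin_cases i <;> decide
  have hsub : (d - Finsupp.single i 1 : Fin 2 →₀ ℕ) (1 - i) = d (1 - i) := by
    rw [Finsupp.tsub_apply, Finsupp.single_apply, if_neg (Ne.symm hne)]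
    exact Nat.sub_zero _
  have hsub' : (d - Finsupp.single i 1 : Fin 2 →₀ ℕ) i = d i - 1 := by
    rw [Finsupp.tsub_apply, Finsupp.single_eq_same]
  rw [hsub, hsub']
  rcases Nat.eq_zero_or_pos (d i) with h | h
  · by_cases h' : d (1 - i) = 0
    · have hd : d = 0 := Finsupp.ext fun j => by
        fin_cases i <;> fin_cases j <;> simp_all
      subst hd
      simp
    · have hd : d ≠ 0 := fun hd => h' (by simp [hd])
      simp [h, h', hd]
  · have hd : d ≠ 0 := fun hd => by simp [hd] at h
    simp [hd, Nat.one_le_iff_ne_zero.2 h.ne', Nat.sub_add_cancel h]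

theorem ser_sum (i : Fin 2) (a : ℕ → R) (n : ℕ) :
    ser i a = (∑ m ∈ Finset.range n, MvPowerSeries.C (a m) * MvPowerSeries.X i ^ m) +
      MvPowerSeries.X i ^ n * ser i (fun m => a (n + m)) := by
  induction n with
  | zero => simp
  | succ n ih =>
    conv_lhs => rw [ih, ser_succ i (fun m => a (n + m))]
    rw [Finset.sum_range_succ, show (fun m => a (n + (m + 1))) = fun m => a (n + 1 + m) from
      funext fun m => by rw [show n + (m + 1) = n + 1 + m by omega]]
    simp only [Nat.add_zero]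
    ring

/-- An element supported on the two axes. -/
noncomputable def axes (a b : ℕ → R) : MvPowerSeries (Fin 2) R :=
  ser 0 a + MvPowerSeries.X 1 * ser 1 b

/-- The equation `xy - r`. -/
noncomputable def rel (r : R) : MvPowerSeries (Fin 2) R :=
  MvPowerSeries.X 0 * MvPowerSeries.X 1 - MvPowerSeries.C r

variable {V : Type u} [CommRing V] (φ : R →+* V) (x₀ y₀ : V)

/-- The values of the terms of an element on the axes at a point. -/
def tau (a b : ℕ → R) : ℤ → V
  | Int.ofNat m => φ (a m) * x₀ ^ m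
  | Int.negSucc m => φ (b m) * y₀ ^ (m + 1)

/-- Truncated expansion at a point. -/
noncomputable def expand (a b : ℕ → R) (L : ℕ) : V[T;T⁻¹] :=
  ∑ i ∈ Finset.Ico (-(L : ℤ)) L, LaurentPolynomial.C (tau φ x₀ y₀ a b i) * LaurentPolynomial.T i

theorem coeff_expand (a b : ℕ → R) (L : ℕ) (j : ℤ) :
    (expand φ x₀ y₀ a b L).coeff j =
      if j ∈ Finset.Ico (-(L : ℤ)) L then tau φ x₀ y₀ a b j else 0 := by
  classical
  rw [expand, AddMonoidAlgebra.coeff_sum, Finsupp.finsetSum_apply, Finset.sum_congr rfl fun i _ => ?_]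
  · exact Finset.sum_ite_eq' _ j (tau φ x₀ y₀ a b)
  · rw [← LaurentPolynomial.single_eq_C_mul_T, AddMonoidAlgebra.coeff_single, Finsupp.single_apply]

variable [IsLocalRing V]

theorem dvd_tau {ϖ : V} (hϖ : maximalIdeal V = Ideal.span {ϖ}) (hx : x₀ ∈ maximalIdeal V)
    (hy : y₀ ∈ maximalIdeal V) (a b : ℕ → R) (L : ℕ) (j : ℤ) (hj : j ∉ Finset.Ico (-(L : ℤ)) L) :
    ϖ ^ L ∣ tau φ x₀ y₀ a b j := by
  rw [hϖ, Ideal.mem_span_singleton] at hx hy
  simp only [Finset.mem_Ico, not_and, not_lt] at hj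
  cases j with
  | ofNat m =>
    simp only [Int.ofNat_eq_natCast] at hj ⊢
    exact Dvd.dvd.mul_left ((pow_dvd_pow _ (by omega)).trans (pow_dvd_pow_of_dvd hx m)) _
  | negSucc m =>
    refine Dvd.dvd.mul_left ((pow_dvd_pow _ ?_).trans (pow_dvd_pow_of_dvd hy (m + 1))) _
    by_contra hlt
    have := hj (by omega)
    omega

/-- The expansion is multiplicative modulo powers of the maximal ideal. -/
theorem expand_mul {ϖ : V} (hϖ : maximalIdeal V = Ideal.span {ϖ}) (hx : x₀ ∈ maximalIdeal V)
    (hy : y₀ ∈ maximalIdeal V) {r : R} (hxy : x₀ * y₀ = φ r) (a b a' b' : ℕ → R) (c : R)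
    (h : axes a b * axes a' b' - MvPowerSeries.C c ∈ Ideal.span {rel r}) (L : ℕ) :
    LaurentPolynomial.C (ϖ ^ L) ∣
      expand φ x₀ y₀ a b L * expand φ x₀ y₀ a' b' L - LaurentPolynomial.C (φ c) := by
  classical
  rcases Nat.eq_zero_or_pos L with rfl | hL
  · simp
  obtain ⟨J, hJ⟩ : ∃ J : Ideal V[T;T⁻¹], J = Ideal.span {LaurentPolynomial.C (ϖ ^ L)} := ⟨_, rfl⟩
  let Q := V[T;T⁻¹] ⧸ J
  let q : V[T;T⁻¹] →+* Q := Ideal.Quotient.mk _
  let I : Ideal Q := Ideal.span {q (LaurentPolynomial.C ϖ)}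
  have hI : I ^ L = ⊥ := by
    rw [Ideal.span_singleton_pow, ← map_pow, ← map_pow, Ideal.span_singleton_eq_bot,
      Ideal.Quotient.eq_zero_iff_mem, hJ]
    exact Ideal.mem_span_singleton_self _
  haveI := Groth.Agent.H24.PowerSeries.isAdicComplete_of_pow_eq_bot I L hI
  let ψ : R →+* Q := q.comp (LaurentPolynomial.C.comp φ)
  letI : Algebra R Q := ψ.toAlgebra
  let v : Fin 2 → Q := ![q (LaurentPolynomial.C x₀ * LaurentPolynomial.T 1),
    q (LaurentPolynomial.C y₀ * LaurentPolynomial.T (-1))]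
  have hmem : ∀ z ∈ maximalIdeal V, ∀ n : ℤ,
      q (LaurentPolynomial.C z * LaurentPolynomial.T n) ∈ I := by
    intro z hz n
    rw [hϖ, Ideal.mem_span_singleton] at hz
    obtain ⟨w, rfl⟩ := hz
    rw [map_mul LaurentPolynomial.C, map_mul, map_mul, mul_assoc]
    exact Ideal.mul_mem_right _ _ (Ideal.mem_span_singleton_self _)
  have hv : ∀ i, v i ∈ I := by
    intro i
    fin_cases i
    · exact hmem x₀ hx 1
    · exact hmem y₀ hy (-1)
  obtain ⟨Ψ, hΨ⟩ := Groth.Agent.H24.PowerSeries.exists_hom (A := R) I v hv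
  have hC : ∀ z : R, Ψ (MvPowerSeries.C z) = q (LaurentPolynomial.C (φ z)) := fun z => Ψ.commutes z
  have hxpow : ∀ (i : Fin 2) (f : MvPowerSeries (Fin 2) R) (n : ℕ), L ≤ n →
      Ψ (MvPowerSeries.X i ^ n * f) = 0 := by
    intro i f n hn
    have : v i ^ n ∈ I ^ L := Ideal.pow_le_pow_right hn (Ideal.pow_mem_pow (hv i) n)
    rw [hI, Ideal.mem_bot] at this
    rw [map_mul, map_pow, hΨ, this, zero_mul]
  have haxes : ∀ a b : ℕ → R, Ψ (axes a b) = q (expand φ x₀ y₀ a b L) := by
    intro a b
    rw [axes, ser_sum 0 a L, ser_sum 1 b L, map_add, map_add, hxpow 0 _ L le_rfl, add_zero,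
      mul_add, map_add, ← mul_assoc, ← pow_succ', hxpow 1 _ (L + 1) (by omega), add_zero,
      map_sum, Finset.mul_sum, map_sum, expand]
    have hsplit : Finset.Ico (-(L : ℤ)) L =
        (Finset.range L).image (fun m : ℕ => (m : ℤ)) ∪
        (Finset.range L).image (fun m : ℕ => -((m : ℤ) + 1)) := by
      ext j
      simp only [Finset.mem_Ico, Finset.mem_union, Finset.mem_image, Finset.mem_range]
      constructor
      · intro ⟨h1, h2⟩
        rcases le_or_gt 0 j with hj | hj
        · exact Or.inl ⟨j.toNat, by omega, by omega⟩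
        · exact Or.inr ⟨(-j - 1).toNat, by omega, by omega⟩
      · rintro (⟨m, hm, rfl⟩ | ⟨m, hm, rfl⟩) <;> omega
    rw [hsplit, Finset.sum_union, Finset.sum_image (by simp), Finset.sum_image (by simp), map_add, map_sum, map_sum]
    · congr 1
      · refine Finset.sum_congr rfl fun m _ => ?_
        rw [map_mul, map_pow, hΨ, hC]
        show q (LaurentPolynomial.C (φ (a m))) *
            q (LaurentPolynomial.C x₀ * LaurentPolynomial.T 1) ^ m =
          q (LaurentPolynomial.C (φ (a m) * x₀ ^ m) * LaurentPolynomial.T (m : ℤ))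
        rw [← map_pow, ← map_mul, mul_pow, LaurentPolynomial.T_pow]
        simp only [map_mul, map_pow, mul_one, mul_assoc]
      · refine Finset.sum_congr rfl fun m _ => ?_
        rw [mul_left_comm, ← pow_succ', map_mul, map_pow, hΨ, hC]
        rw [show -((m : ℤ) + 1) = Int.negSucc m from (Int.negSucc_eq m).symm]
        show q (LaurentPolynomial.C (φ (b m))) *
            q (LaurentPolynomial.C y₀ * LaurentPolynomial.T (-1)) ^ (m + 1) =
          q (LaurentPolynomial.C (φ (b m) * y₀ ^ (m + 1)) * LaurentPolynomial.T (Int.negSucc m))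
        rw [← map_pow, ← map_mul, mul_pow, LaurentPolynomial.T_pow,
          show ((m + 1 : ℕ) : ℤ) * -1 = Int.negSucc m by omega]
        simp only [map_mul, map_pow, mul_assoc]
    · rw [Finset.disjoint_left]
      intro j hj hj'
      simp only [Finset.mem_image, Finset.mem_range] at hj hj'
      obtain ⟨m, -, rfl⟩ := hj
      obtain ⟨m', -, h'⟩ := hj'
      omega
  have hrel : Ψ (rel r) = 0 := by
    rw [rel, map_sub, map_mul, hΨ, hΨ, hC]
    show q (LaurentPolynomial.C x₀ * LaurentPolynomial.T 1) *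
      q (LaurentPolynomial.C y₀ * LaurentPolynomial.T (-1)) - _ = 0
    rw [← map_mul, mul_mul_mul_comm, ← map_mul, hxy, ← LaurentPolynomial.T_add,
      show (1 : ℤ) + -1 = 0 by norm_num, LaurentPolynomial.T_zero, mul_one, sub_self]
  obtain ⟨g, hg⟩ := Ideal.mem_span_singleton'.1 h
  have h0 := congrArg Ψ hg
  rw [map_mul, hrel, mul_zero, map_sub, map_mul, haxes, haxes, hC, ← map_mul, ← map_sub] at h0
  have h1 := Ideal.Quotient.eq_zero_iff_mem.1 h0.symm
  rw [hJ] at h1
  exact Ideal.mem_span_singleton.1 h1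

end Groth.Agent.H24.NodeRing
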