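import Groth.Agent.H24.NodeRing.Core

/-!
# The dominant term
-/

set_option autoImplicit false
set_option linter.style.haveILetI false

universe u

open IsLocalRing
open scoped LaurentPolynomial

namespace Groth.Agent.H24.NodeRing

/-- `τ n` strictly dominates the family. -/
def Dom {V : Type u} [CommRing V] (ϖ : V) (τ : ℤ → V) (n : ℤ) : Prop :=
  τ n ≠ 0 ∧ ∀ i, i ≠ n → τ n * ϖ ∣ τ i

theorem Dom.unique {V : Type u} [CommRing V] [IsDomain V] {ϖ : V} (hϖ : ¬ IsUnit ϖ) {τ : ℤ → V}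
    {n m : ℤ} (hn : Dom ϖ τ n) (hm : Dom ϖ τ m) : n = m := by
  by_contra h
  obtain ⟨w, hw⟩ := hn.2 m (Ne.symm h)
  obtain ⟨z, hz⟩ := hm.2 n h
  rw [hw] at hz
  have h1 : τ n * 1 = τ n * (ϖ * (w * ϖ * z)) := by rw [mul_one]; linear_combination hz
  exact hϖ (IsUnit.of_mul_eq_one _ (mul_left_cancel₀ hn.1 h1).symm)

variable {R V : Type u} [CommRing R] [CommRing V] (φ : R →+* V) (x₀ y₀ : V)

theorem tau_swap_neg (a b : ℕ → R) (i : ℤ) :
    tau φ y₀ x₀ (fun m => if m = 0 then a 0 else b (m - 1)) (fun m => a (m + 1)) i =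
      tau φ x₀ y₀ a b (-i) := by
  rcases i with ((_ | m) | m)
  · show φ (a 0) * y₀ ^ 0 = φ (a 0) * x₀ ^ 0
    rw [pow_zero, pow_zero]
  · rfl
  · rfl

variable [IsDomain V] [IsDiscreteValuationRing V]

theorem exists_order {ϖ : V} (hϖ : Irreducible ϖ) (τ : ℤ → V) (h : ∃ i, τ i ≠ 0) :
    ∃ μ : ℕ, (∀ i, ϖ ^ μ ∣ τ i) ∧ ∃ i, ¬ ϖ ^ (μ + 1) ∣ τ i := by
  classical
  have hex : ∃ μ : ℕ, ∃ i, ¬ ϖ ^ (μ + 1) ∣ τ i := by
    obtain ⟨i, hi⟩ := h
    obtain ⟨k, u, hk⟩ := IsDiscreteValuationRing.eq_unit_mul_pow_irreducible hi hϖ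
    refine ⟨k, i, fun ⟨w, hw⟩ => hϖ.not_isUnit ?_⟩
    rw [hk, pow_succ, mul_assoc, mul_comm (u : V)] at hw
    have := mul_left_cancel₀ (pow_ne_zero k hϖ.ne_zero) hw
    exact (IsUnit.mul_iff.1 (this ▸ u.isUnit)).1
  refine ⟨Nat.find hex, fun i => ?_, Nat.find_spec hex⟩
  by_contra hi
  rcases Nat.eq_zero_or_pos (Nat.find hex) with h0 | h0
  · exact hi (by simp [h0])
  · exact Nat.find_min hex (m := Nat.find hex - 1) (by omega)
      ⟨i, by rwa [Nat.sub_add_cancel h0]⟩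

theorem eq_single_of_mul_eq_C {k : Type u} [Field k] (F G : k[T;T⁻¹]) (u : k) (hu : u ≠ 0)
    (h : F * G = LaurentPolynomial.C u) :
    ∃ (a : k) (n : ℤ), a ≠ 0 ∧ F = LaurentPolynomial.C a * LaurentPolynomial.T n := by
  classical
  obtain ⟨p, F', hF⟩ := LaurentPolynomial.exists_T_pow F
  obtain ⟨q, G', hG⟩ := LaurentPolynomial.exists_T_pow G
  have hprod : F' * G' = Polynomial.C u * Polynomial.X ^ (p + q) := by
    apply Polynomial.toLaurent_injective
    rw [map_mul, hF, hG, map_mul, Polynomial.toLaurent_C, Polynomial.toLaurent_X_pow]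
    rw [mul_mul_mul_comm, h, ← LaurentPolynomial.T_add]
    push_cast; rfl
  have hdvd : F' ∣ Polynomial.X ^ (p + q) :=
    (IsUnit.dvd_mul_left (Polynomial.isUnit_C.2 (IsUnit.mk0 _ hu))).1 ⟨G', hprod.symm⟩
  obtain ⟨i, -, hi⟩ := (dvd_prime_pow Polynomial.prime_X _).1 hdvd
  obtain ⟨w, hw⟩ := hi.symm
  obtain ⟨a, ha, haw⟩ := Polynomial.isUnit_iff.1 w.isUnit
  refine ⟨a, (i : ℤ) - p, ha.ne_zero, ?_⟩
  have h1 : F * LaurentPolynomial.T p =
      LaurentPolynomial.C a * LaurentPolynomial.T (i : ℤ) := by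
    rw [← hF, ← hw, ← haw, map_mul, Polynomial.toLaurent_X_pow, Polynomial.toLaurent_C, mul_comm]
  calc F = F * LaurentPolynomial.T p * LaurentPolynomial.T (-(p : ℤ)) := by
        rw [LaurentPolynomial.mul_T_assoc, add_neg_cancel, LaurentPolynomial.T_zero, mul_one]
    _ = _ := by rw [h1, LaurentPolynomial.mul_T_assoc, ← sub_eq_add_neg]

theorem dvd_of_C_dvd (z : V) (P : V[T;T⁻¹]) (h : LaurentPolynomial.C z ∣ P) (j : ℤ) :
    z ∣ P.coeff j := by
  obtain ⟨Q, rfl⟩ := h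
  rw [← LaurentPolynomial.smul_eq_C_mul, AddMonoidAlgebra.coeff_smul]
  exact Dvd.intro _ rfl

theorem coeff_C_zero (z : V) : (LaurentPolynomial.C z : V[T;T⁻¹]).coeff 0 = z := by
  rw [← LaurentPolynomial.single_eq_C, AddMonoidAlgebra.coeff_single, Finsupp.single_eq_same]

/-- The two lowest parts, as seen in the residue field. -/
theorem exists_reduction {ϖ : V} (hϖ : Irreducible ϖ) (hx : x₀ ∈ maximalIdeal V)
    (hy : y₀ ∈ maximalIdeal V) (a b : ℕ → R) (h : ∃ i, tau φ x₀ y₀ a b i ≠ 0) :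
    ∃ μ : ℕ, (∀ i, ϖ ^ μ ∣ tau φ x₀ y₀ a b i) ∧ ∀ L : ℕ, μ < L →
      ∃ F : V[T;T⁻¹], expand φ x₀ y₀ a b L = LaurentPolynomial.C (ϖ ^ μ) * F ∧
        AddMonoidAlgebra.mapRingHom ℤ (residue V) F ≠ 0 ∧
        ∀ i, residue V (F.coeff i) = 0 → ϖ ^ (μ + 1) ∣ tau φ x₀ y₀ a b i := by
  classical
  obtain ⟨μ, hμ, i₀, hi₀⟩ := exists_order hϖ _ h
  refine ⟨μ, hμ, fun L hL => ?_⟩
  choose q hq using hμ
  let F : V[T;T⁻¹] := ∑ i ∈ Finset.Ico (-(L : ℤ)) L, LaurentPolynomial.C (q i) * LaurentPolynomial.T i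
  have hcoef : ∀ j, F.coeff j = if j ∈ Finset.Ico (-(L : ℤ)) L then q j else 0 := by
    intro j
    rw [AddMonoidAlgebra.coeff_sum, Finsupp.finsetSum_apply, Finset.sum_congr rfl fun i _ => ?_]
    · exact Finset.sum_ite_eq' _ j q
    · rw [← LaurentPolynomial.single_eq_C_mul_T, AddMonoidAlgebra.coeff_single, Finsupp.single_apply]
  have hres : ∀ i, residue V (F.coeff i) = 0 → ϖ ^ (μ + 1) ∣ tau φ x₀ y₀ a b i := by
    intro i hi
    rw [residue_eq_zero_iff, hcoef] at hi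
    split at hi
    · rw [hϖ.maximalIdeal_eq, Ideal.mem_span_singleton] at hi
      rw [hq i, pow_succ]
      exact mul_dvd_mul_left _ hi
    · exact (pow_dvd_pow ϖ hL).trans (dvd_tau φ x₀ y₀ hϖ.maximalIdeal_eq hx hy a b L i ‹_›)
  refine ⟨F, ?_, fun h0 => hi₀ (hres i₀ ?_), hres⟩
  · rw [Finset.mul_sum, expand]
    exact Finset.sum_congr rfl fun i _ => by rw [← mul_assoc, ← map_mul, ← hq i]
  · rw [← AddMonoidAlgebra.coeff_mapRingHom, h0]
    rfl

/-- If a product of two elements is a non-zero constant, each has a dominant term, in opposite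
degrees. -/
theorem exists_dom {ϖ : V} (hϖ : Irreducible ϖ) (hx : x₀ ∈ maximalIdeal V)
    (hy : y₀ ∈ maximalIdeal V) {r : R} (hxy : x₀ * y₀ = φ r) (a b a' b' : ℕ → R) (c : R)
    (hc : φ c ≠ 0) (h : axes a b * axes a' b' - MvPowerSeries.C c ∈ Ideal.span {rel r}) :
    ∃ n : ℤ, Dom ϖ (tau φ x₀ y₀ a b) n ∧ Dom ϖ (tau φ x₀ y₀ a' b') (-n) ∧
      Associated (tau φ x₀ y₀ a b n * tau φ x₀ y₀ a' b' (-n)) (φ c) := by
  classical
  obtain ⟨γ, w, hw⟩ := IsDiscreteValuationRing.eq_unit_mul_pow_irreducible hc hϖ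
  have hmul := expand_mul φ x₀ y₀ hϖ.maximalIdeal_eq hx hy hxy a b a' b' c h
  have hnd : ∀ m, γ < m → ¬ ϖ ^ m ∣ φ c := by
    intro m hm hdvd
    have : ϖ ^ (γ + 1) ∣ φ c := (pow_dvd_pow ϖ hm).trans hdvd
    rw [hw, mul_comm, pow_succ] at this
    have := (mul_dvd_mul_iff_left (pow_ne_zero γ hϖ.ne_zero)).1 this
    exact hϖ.not_isUnit (isUnit_of_dvd_unit this w.isUnit)
  have hne : ∀ a b a' b' : ℕ → R,
      (∀ L, LaurentPolynomial.C (ϖ ^ L) ∣
        expand φ x₀ y₀ a b L * expand φ x₀ y₀ a' b' L - LaurentPolynomial.C (φ c)) →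
      ∃ i, tau φ x₀ y₀ a b i ≠ 0 := by
    intro a b a' b' hm
    by_contra hall
    have h0 : expand φ x₀ y₀ a b (γ + 1) = 0 :=
      Finset.sum_eq_zero fun i _ => by rw [not_not.1 (not_exists.1 hall i), map_zero, zero_mul]
    have h1 := hm (γ + 1)
    rw [h0, zero_mul, zero_sub, dvd_neg] at h1
    have h2 := dvd_of_C_dvd _ _ h1 0
    rw [coeff_C_zero] at h2
    exact hnd (γ + 1) (by omega) h2
  have hmul' : ∀ L, LaurentPolynomial.C (ϖ ^ L) ∣
      expand φ x₀ y₀ a' b' L * expand φ x₀ y₀ a b L - LaurentPolynomial.C (φ c) := fun L => by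
    rw [mul_comm]; exact hmul L
  obtain ⟨μ, hμ, hF⟩ := exists_reduction φ x₀ y₀ hϖ hx hy a b (hne a b a' b' hmul)
  obtain ⟨ν, hν, hG⟩ := exists_reduction φ x₀ y₀ hϖ hx hy a' b' (hne a' b' a b hmul')
  let L := μ + ν + γ + 1
  obtain ⟨F, hF1, hF2, hF3⟩ := hF L (by omega)
  obtain ⟨G, hG1, hG2, hG3⟩ := hG L (by omega)
  obtain ⟨H, hH⟩ := hmul L
  have heq : LaurentPolynomial.C (φ c) = LaurentPolynomial.C (ϖ ^ (μ + ν)) *
      (F * G - LaurentPolynomial.C (ϖ ^ (L - (μ + ν))) * H) := by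
    rw [mul_sub, ← mul_assoc, ← mul_assoc, ← map_mul, ← pow_add,
      Nat.add_sub_cancel' (by omega : μ + ν ≤ L)]
    rw [hF1, hG1] at hH
    rw [show LaurentPolynomial.C (ϖ ^ (μ + ν)) =
      LaurentPolynomial.C (ϖ ^ μ) * LaurentPolynomial.C (ϖ ^ ν) by rw [pow_add, map_mul]]
    linear_combination -hH
  have hle : μ + ν ≤ γ := by
    by_contra hlt
    have := dvd_of_C_dvd _ _ (Dvd.intro _ heq.symm) 0
    rw [coeff_C_zero] at this
    exact hnd (μ + ν) (by omega) this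
  let red : V[T;T⁻¹] →+* (ResidueField V)[T;T⁻¹] := AddMonoidAlgebra.mapRingHom ℤ (residue V)
  have hredC : ∀ z, red (LaurentPolynomial.C z) = LaurentPolynomial.C (residue V z) := fun z => by
    simp only [red, ← LaurentPolynomial.single_eq_C, AddMonoidAlgebra.mapRingHom_single]
  have hFG : LaurentPolynomial.C ((w : V) * ϖ ^ (γ - (μ + ν))) =
      F * G - LaurentPolynomial.C (ϖ ^ (L - (μ + ν))) * H := by
    have h1 : (LaurentPolynomial.C (ϖ ^ (μ + ν)) : V[T;T⁻¹]) ≠ 0 := fun h0 =>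
      pow_ne_zero (μ + ν) hϖ.ne_zero (by rw [← coeff_C_zero (ϖ ^ (μ + ν)), h0]; rfl)
    refine mul_left_cancel₀ h1 ?_
    rw [← heq, hw, ← map_mul, mul_left_comm, ← pow_add, Nat.add_sub_cancel' hle]
  have hredFG : red F * red G = LaurentPolynomial.C (residue V ((w : V) * ϖ ^ (γ - (μ + ν)))) := by
    rw [← hredC, hFG, map_sub, map_mul red (LaurentPolynomial.C _) H, hredC, map_pow,
      show residue V ϖ = 0 from (residue_eq_zero_iff _).2
        (hϖ.maximalIdeal_eq ▸ Ideal.mem_span_singleton_self ϖ),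
      zero_pow (by omega), map_zero, zero_mul, sub_zero, map_mul]
  have hγ : γ = μ + ν := by
    by_contra hne'
    rw [map_mul (residue V), map_pow, show residue V ϖ = 0 from (residue_eq_zero_iff _).2
        (hϖ.maximalIdeal_eq ▸ Ideal.mem_span_singleton_self ϖ),
      zero_pow (by omega), mul_zero, map_zero] at hredFG
    exact (mul_eq_zero.1 hredFG).elim hF2 hG2
  rw [hγ, Nat.sub_self, pow_zero, mul_one] at hredFG
  have hwres : residue V (w : V) ≠ 0 := (w.isUnit.map (residue V)).ne_zero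
  obtain ⟨s, n, hs, hn⟩ := eq_single_of_mul_eq_C _ _ _ hwres hredFG
  obtain ⟨s', n', hs', hn'⟩ := eq_single_of_mul_eq_C _ _ _ hwres ((mul_comm _ _).trans hredFG)
  have hnn : n' = -n := by
    rw [hn, hn', ← LaurentPolynomial.single_eq_C_mul_T, ← LaurentPolynomial.single_eq_C_mul_T,
      AddMonoidAlgebra.single_mul_single, ← LaurentPolynomial.single_eq_C] at hredFG
    have := congrArg (fun P : (ResidueField V)[T;T⁻¹] => P.coeff (n + n')) hredFG
    simp only [AddMonoidAlgebra.coeff_single, Finsupp.single_eq_same, Finsupp.single_apply] at this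
    by_contra hne'
    rw [if_neg (by omega)] at this
    exact mul_ne_zero hs hs' this
  have key : ∀ (τ : ℤ → V) (P : V[T;T⁻¹]) (ρ : ℕ) (t : ResidueField V) (m : ℤ), t ≠ 0 →
      red P = LaurentPolynomial.C t * LaurentPolynomial.T m → (∀ i, ϖ ^ ρ ∣ τ i) →
      (∀ i, residue V (P.coeff i) = 0 → ϖ ^ (ρ + 1) ∣ τ i) → τ m ≠ 0 → Associated (τ m) (ϖ ^ ρ) →
      Dom ϖ τ m := by
    intro τ P ρ t m ht hP hτ hzero hne hass
    refine ⟨hne, fun i hi => ?_⟩
    refine ((hass.mul_right ϖ).dvd_iff_dvd_left).2 ?_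
    rw [← pow_succ]
    refine hzero i ?_
    rw [← AddMonoidAlgebra.coeff_mapRingHom, show AddMonoidAlgebra.mapRingHom ℤ (residue V) P = red P
      from rfl, hP, ← LaurentPolynomial.single_eq_C_mul_T, AddMonoidAlgebra.coeff_single,
      Finsupp.single_apply, if_neg (Ne.symm hi)]
  have hass : ∀ (a b : ℕ → R) (P : V[T;T⁻¹]) (ρ : ℕ) (t : ResidueField V) (m : ℤ), t ≠ 0 → ρ < L →
      red P = LaurentPolynomial.C t * LaurentPolynomial.T m →
      expand φ x₀ y₀ a b L = LaurentPolynomial.C (ϖ ^ ρ) * P →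
      Associated (tau φ x₀ y₀ a b m) (ϖ ^ ρ) := by
    intro a b P ρ t m ht hρ hP hexp
    have hu : IsUnit (P.coeff m) := by
      rw [← IsLocalRing.notMem_maximalIdeal, ← residue_eq_zero_iff, ← AddMonoidAlgebra.coeff_mapRingHom,
        show AddMonoidAlgebra.mapRingHom ℤ (residue V) P = red P from rfl, hP,
        ← LaurentPolynomial.single_eq_C_mul_T, AddMonoidAlgebra.coeff_single, Finsupp.single_eq_same]
      exact ht
    have h1 := congrArg (fun Q : V[T;T⁻¹] => Q.coeff m) hexp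
    simp only [coeff_expand] at h1
    rw [← LaurentPolynomial.smul_eq_C_mul, AddMonoidAlgebra.coeff_smul, Finsupp.smul_apply, smul_eq_mul] at h1
    split at h1
    · rw [h1]; exact associated_mul_unit_left _ _ hu
    · exact absurd h1.symm (mul_ne_zero (pow_ne_zero _ hϖ.ne_zero) hu.ne_zero)
  have ha := hass a b F μ s n hs (by omega) hn hF1
  have ha' := hass a' b' G ν s' (-n) hs' (by omega) (hnn ▸ hn') hG1
  refine ⟨n, key _ F μ s n hs hn hμ hF3 (fun h0 => pow_ne_zero μ hϖ.ne_zero (ha.eq_zero_iff.1 h0)) ha,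
    key _ G ν s' (-n) hs' (hnn ▸ hn') hν hG3
      (fun h0 => pow_ne_zero ν hϖ.ne_zero (ha'.eq_zero_iff.1 h0)) ha', ?_⟩
  refine (ha.mul_mul ha').trans ?_
  rw [← pow_add, ← hγ, hw]
  exact (associated_unit_mul_left _ _ w.isUnit).symm

/-- A product of non-zero elements is non-zero. -/
theorem eq_zero_of_mul {ϖ : V} (hϖ : Irreducible ϖ) (hx : x₀ ∈ maximalIdeal V)
    (hy : y₀ ∈ maximalIdeal V) {r : R} (hxy : x₀ * y₀ = φ r) (a b a' b' : ℕ → R)
    (h : axes a b * axes a' b' ∈ Ideal.span {rel r}) :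
    (∀ i, tau φ x₀ y₀ a b i = 0) ∨ ∀ i, tau φ x₀ y₀ a' b' i = 0 := by
  by_contra hall
  push Not at hall
  obtain ⟨μ, hμ, hF⟩ := exists_reduction φ x₀ y₀ hϖ hx hy a b hall.1
  obtain ⟨ν, hν, hG⟩ := exists_reduction φ x₀ y₀ hϖ hx hy a' b' hall.2
  let L := μ + ν + 1
  obtain ⟨F, hF1, hF2, -⟩ := hF L (by omega)
  obtain ⟨G, hG1, hG2, -⟩ := hG L (by omega)
  obtain ⟨H, hH⟩ := expand_mul φ x₀ y₀ hϖ.maximalIdeal_eq hx hy hxy a b a' b' 0 (by simpa using h) L
  rw [map_zero, map_zero, sub_zero, hF1, hG1] at hH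
  have h1 : (LaurentPolynomial.C (ϖ ^ (μ + ν)) : V[T;T⁻¹]) ≠ 0 := fun h0 =>
    pow_ne_zero (μ + ν) hϖ.ne_zero (by rw [← coeff_C_zero (ϖ ^ (μ + ν)), h0]; rfl)
  have h2 : F * G = LaurentPolynomial.C ϖ * H := by
    refine mul_left_cancel₀ h1 ?_
    rw [← mul_assoc, ← mul_assoc, ← map_mul, ← pow_succ]
    rw [pow_add, map_mul]
    linear_combination hH
  have h3 := congrArg (AddMonoidAlgebra.mapRingHom ℤ (residue V)) h2
  rw [map_mul, map_mul, ← LaurentPolynomial.single_eq_C, AddMonoidAlgebra.mapRingHom_single,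
    show residue V ϖ = 0 from (residue_eq_zero_iff _).2
      (hϖ.maximalIdeal_eq ▸ Ideal.mem_span_singleton_self ϖ), AddMonoidAlgebra.single_zero,
    zero_mul] at h3
  exact (mul_eq_zero.1 h3).elim hF2 hG2

end Groth.Agent.H24.NodeRing
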