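import Groth.Agent.H24.NodeRing.PolyAxes
import Groth.Agent.Lib.Regular.UFD
import Mathlib.RingTheory.Ideal.Height
import Mathlib.RingTheory.Ideal.KrullsHeightTheorem
import Mathlib.RingTheory.Localization.AtPrime.Basic

/-!
# Fibral height one primes of `R[[x, y]]/(xy - r)`

Every prime containing a prime `π` of `R` contains one of `(π)` (if `π ∤ r`), `(π, x)`, `(π, y)` (if
`π ∣ r`), and these come from polynomials.
-/

set_option autoImplicit false
set_option linter.style.haveILetI false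

universe u

open IsLocalRing

namespace Groth.Agent.H24.NodeRing

variable {R : Type u} [CommRing R]

local notation "cR" => (MvPolynomial.coeToMvPowerSeries.ringHom :
  MvPolynomial (Fin 2) R →+* MvPowerSeries (Fin 2) R)

/-- A minimal prime over `(π, xy - r)` coming from polynomials. -/
def Cand (r π : R) (J : Ideal (MvPolynomial (Fin 2) R)) : Prop :=
  (J.map cR).IsPrime ∧ (∀ z, cR z ∈ J.map cR → z ∈ J) ∧ prel r ∈ J ∧
    MvPolynomial.C π ∈ J ∧ ∀ Q : Ideal (MvPolynomial (Fin 2) R), Q.IsPrime → prel r ∈ Q →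
      MvPolynomial.C π ∈ Q → Q ≤ J → J ≤ Q

theorem cR_C (c : R) : cR (MvPolynomial.C c) = MvPowerSeries.C c := MvPolynomial.coe_C c

theorem cR_X (i : Fin 2) : cR (MvPolynomial.X i) = MvPowerSeries.X i := MvPolynomial.coe_X i

theorem cR_prel (r : R) : cR (prel r) = rel r := coe_prel r

variable [IsDomain R] [IsLocalRing R] [IsNoetherianRing R] [IsAdicComplete (maximalIdeal R) R]

theorem cand_of_not_dvd {r π : R} (hr : r ∈ maximalIdeal R) (hπ : Prime π) (hπr : ¬ π ∣ r) :
    Cand r π (Ideal.span {MvPolynomial.C π, prel r}) := by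
  classical
  let I := Ideal.span {π}
  haveI : I.IsPrime := (Ideal.span_singleton_prime hπ.ne_zero).2 hπ
  haveI : IsLocalRing (R ⧸ I) := .of_surjective' (Ideal.Quotient.mk I) Ideal.Quotient.mk_surjective
  let p := Ideal.Quotient.mk I
  haveI : IsLocalHom p := .of_surjective _ Ideal.Quotient.mk_surjective
  have hmax : (maximalIdeal R).map p = maximalIdeal (R ⧸ I) :=
    IsLocalRing.map_maximalIdeal_of_surjective p Ideal.Quotient.mk_surjective
  haveI : IsAdicComplete (maximalIdeal (R ⧸ I)) (R ⧸ I) :=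
    hmax ▸ Groth.Agent.Lib.Adic.Complete.isAdicComplete_quotient I
  have hpr : p r ∈ maximalIdeal (R ⧸ I) := hmax ▸ Ideal.mem_map_of_mem p hr
  have hpr0 : p r ≠ 0 := fun h0 =>
    hπr (Ideal.mem_span_singleton.1 (Ideal.Quotient.eq_zero_iff_mem.1 h0))
  let q := MvPowerSeries.map (σ := Fin 2) p
  have hqs : Function.Surjective q := fun g => by
    choose w hw using fun d => Ideal.Quotient.mk_surjective (I := I) (MvPowerSeries.coeff d g)
    exact ⟨(fun d => w d : MvPowerSeries (Fin 2) R),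
      MvPowerSeries.ext fun d => (MvPowerSeries.coeff_map _ _ _).trans (hw d)⟩
  have hqrel : q (rel r) = rel (p r) := by simp [rel, q]
  have hker : RingHom.ker q = Ideal.span {MvPowerSeries.C π} := by
    refine le_antisymm (fun g hg => ?_) ((Ideal.span_singleton_le_iff_mem _).2 ?_)
    · have hd : ∀ d, π ∣ MvPowerSeries.coeff d g := fun d => by
        rw [← Ideal.mem_span_singleton, ← Ideal.Quotient.eq_zero_iff_mem, ← MvPowerSeries.coeff_map]
        show MvPowerSeries.coeff d (q g) = 0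
        rw [RingHom.mem_ker.1 hg, map_zero]
      choose w hw using hd
      let w' : MvPowerSeries (Fin 2) R := fun d => w d
      refine Ideal.mem_span_singleton.2 ⟨w', ?_⟩
      ext d
      rw [MvPowerSeries.coeff_C_mul]
      exact hw d
    · rw [RingHom.mem_ker]
      show MvPowerSeries.map p _ = 0
      rw [MvPowerSeries.map_C, Ideal.Quotient.eq_zero_iff_mem.2 (Ideal.mem_span_singleton_self π),
        map_zero]
  have hmap : (Ideal.span {MvPolynomial.C π, prel r}).map cR =
      (Ideal.span {rel (p r)}).comap q := by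
    rw [show Ideal.span {rel (p r)} = (Ideal.span {rel r}).map q by
        rw [Ideal.map_span, Set.image_singleton, hqrel],
      Ideal.comap_map_of_surjective q hqs, ← RingHom.ker_eq_comap_bot, hker, Ideal.map_span,
      Set.image_pair, cR_C, cR_prel, Ideal.span_insert, sup_comm]
  have hprime : (Ideal.span {rel (p r)}).IsPrime := by
    refine ⟨fun htop => ?_, fun {f g} h => mem_or_mem hpr hpr0 h⟩
    have h1 := Ideal.mem_span_singleton.1 ((Ideal.eq_top_iff_one _).1 htop)
    have h2 := MvPowerSeries.isUnit_iff_constantCoeff.1 (isUnit_of_dvd_one h1)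
    rw [rel, map_sub, map_mul, MvPowerSeries.constantCoeff_X, zero_mul, zero_sub,
      MvPowerSeries.constantCoeff_C, IsUnit.neg_iff] at h2
    exact hpr h2
  refine ⟨hmap ▸ hprime.comap q, fun z hz => ?_, Ideal.subset_span (by simp),
    Ideal.subset_span (by simp), fun Q _ h1 h2 _ => Ideal.span_le.2 (Set.pair_subset h2 h1)⟩
  rw [hmap, Ideal.mem_comap] at hz
  have hz' : MvPolynomial.map p z ∈ Ideal.span {prel (p r)} := by
    refine mem_prel_of_coe_mem hpr ?_
    convert hz using 1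
    ext d
    show _ = MvPowerSeries.coeff d (MvPowerSeries.map p _)
    rw [MvPowerSeries.coeff_map, MvPolynomial.coeff_coe, MvPolynomial.coeff_map]
    rfl
  have e : Ideal.span {prel (p r)} = (Ideal.span {prel r}).map (MvPolynomial.map p) := by
    rw [Ideal.map_span, Set.image_singleton]
    congr 2
    simp [prel]
  have hps : Function.Surjective (MvPolynomial.map p : MvPolynomial (Fin 2) R → _) :=
    MvPolynomial.map_surjective p Ideal.Quotient.mk_surjective
  rw [e, ← Ideal.mem_comap, Ideal.comap_map_of_surjective _ hps, ← RingHom.ker_eq_comap_bot,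
    MvPolynomial.ker_map, Ideal.mk_ker, Ideal.map_span, Set.image_singleton, sup_comm] at hz'
  rwa [Ideal.span_insert]

omit [IsLocalRing R] [IsNoetherianRing R] [IsAdicComplete (maximalIdeal R) R] in
theorem cand_of_dvd {r π : R} (hπ : Prime π) (hπr : π ∣ r) (i : Fin 2) :
    Cand r π (Ideal.span {MvPolynomial.C π, MvPolynomial.X (1 - i)}) := by
  classical
  let I := Ideal.span {π}
  haveI : I.IsPrime := (Ideal.span_singleton_prime hπ.ne_zero).2 hπ
  let θ : MvPowerSeries (Fin 2) R →+* PowerSeries (R ⧸ I) :=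
    (PowerSeries.map (Ideal.Quotient.mk I)).comp (axis R i)
  have hne : (1 - i : Fin 2) ≠ i := by fin_cases i <;> decide
  have hC : θ (MvPowerSeries.C π) = 0 := by
    show PowerSeries.map (Ideal.Quotient.mk I) (axis R i _) = 0
    rw [axis_C, PowerSeries.map_C,
      Ideal.Quotient.eq_zero_iff_mem.2 (Ideal.mem_span_singleton_self π), map_zero]
  have hX : θ (MvPowerSeries.X (1 - i)) = 0 := by
    show PowerSeries.map (Ideal.Quotient.mk I) (axis R i _) = 0
    rw [axis_X_ne i (1 - i) hne, map_zero]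
  have hXi : θ (MvPowerSeries.X i) ≠ 0 := by
    show PowerSeries.map (Ideal.Quotient.mk I) (axis R i _) ≠ 0
    rw [axis_X_self, PowerSeries.map_X]
    exact PowerSeries.X_ne_zero
  have hsp : (Ideal.span {MvPolynomial.C π, MvPolynomial.X (1 - i)}).map cR =
      RingHom.ker θ := by
    rw [Ideal.map_span, Set.image_pair, cR_C, cR_X]
    refine le_antisymm (Ideal.span_le.2 (Set.pair_subset hC hX)) fun f hf => ?_
    let a := fun n => MvPowerSeries.coeff (Finsupp.single i n) f
    have hd : ∀ n, π ∣ a n := fun n => by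
      have h := congrArg (PowerSeries.coeff n) (RingHom.mem_ker.1 hf)
      rw [RingHom.comp_apply, PowerSeries.coeff_map, coeff_axis, map_zero,
        Ideal.Quotient.eq_zero_iff_mem, Ideal.mem_span_singleton] at h
      exact h
    choose w hw using hd
    have h1 : f - MvPowerSeries.C π * ser i w ∈ Ideal.span {MvPowerSeries.X (1 - i)} := by
      rw [Ideal.mem_span_singleton, MvPowerSeries.X_dvd_iff]
      intro d hd0
      rw [map_sub, MvPowerSeries.coeff_C_mul, coeff_ser, if_pos hd0, ← hw, sub_eq_zero]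
      have hd' : d = Finsupp.single i (d i) := Finsupp.ext fun j => by
        fin_cases i <;> fin_cases j <;> simp_all [Finsupp.single_apply]
      conv_lhs => rw [hd']
    rw [← sub_add_cancel f (MvPowerSeries.C π * ser i w)]
    exact add_mem (Ideal.span_mono (by simp) h1)
      (Ideal.mul_mem_right _ _ (Ideal.subset_span (by simp)))
  obtain ⟨c, hc⟩ := hπr
  have hprel : prel r ∈ Ideal.span {MvPolynomial.C π, MvPolynomial.X (1 - i)} := by
    rw [prel, hc, map_mul]
    refine sub_mem ?_ (Ideal.mul_mem_right _ _ (Ideal.subset_span (by simp)))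
    rcases (show i = 0 ∨ i = 1 by fin_cases i <;> simp) with rfl | rfl
    · exact Ideal.mul_mem_left _ _ (Ideal.subset_span (by simp))
    · exact Ideal.mul_mem_right _ _ (Ideal.subset_span (by simp))
  have hmem : ∀ z, cR z ∈ (Ideal.span {MvPolynomial.C π, MvPolynomial.X (1 - i)}).map cR →
      z ∈ Ideal.span {MvPolynomial.C π, MvPolynomial.X (1 - i)} := by
    intro z hz
    rw [hsp, RingHom.mem_ker] at hz
    rw [z.as_sum]
    refine sum_mem fun d _ => ?_
    by_cases hd : d (1 - i) = 0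
    · have hd' : d = Finsupp.single i (d i) := Finsupp.ext fun j => by
        fin_cases i <;> fin_cases j <;> simp_all [Finsupp.single_apply]
      have h := congrArg (PowerSeries.coeff (d i)) hz
      rw [RingHom.comp_apply, PowerSeries.coeff_map, coeff_axis, map_zero, ← hd',
        Ideal.Quotient.eq_zero_iff_mem, Ideal.mem_span_singleton] at h
      obtain ⟨w, hw⟩ := h
      rw [MvPolynomial.coeToMvPowerSeries.ringHom_apply, MvPolynomial.coeff_coe] at hw
      rw [hw, ← MvPolynomial.C_mul_monomial]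
      exact Ideal.mul_mem_right _ _ (Ideal.subset_span (by simp))
    · refine Ideal.span_mono (Set.subset_insert _ _) (Ideal.mem_span_singleton.2 ?_)
      exact MvPolynomial.X_dvd_monomial.2 (Or.inr hd)
  refine ⟨hsp ▸ RingHom.ker_isPrime θ, hmem, hprel, Ideal.subset_span (by simp),
    fun Q hQ h1 h2 h3 => Ideal.span_le.2 (Set.pair_subset h2 ?_)⟩
  have hxy : MvPolynomial.X (0 : Fin 2) * MvPolynomial.X 1 ∈ Q := by
    rw [← sub_add_cancel (MvPolynomial.X (0 : Fin 2) * MvPolynomial.X 1) (MvPolynomial.C r)]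
    refine add_mem h1 ?_
    rw [hc, map_mul]
    exact Ideal.mul_mem_right _ _ h2
  have hXnot : MvPolynomial.X i ∉ Q := fun h => hXi (by
    have h4 := Ideal.mem_map_of_mem cR (h3 h)
    rw [hsp, RingHom.mem_ker, cR_X] at h4
    exact h4)
  rcases (show i = 0 ∨ i = 1 by fin_cases i <;> simp) with rfl | rfl
  · exact (hQ.mem_or_mem hxy).resolve_left hXnot
  · exact (hQ.mem_or_mem hxy).resolve_right hXnot

theorem exists_cand {r π : R} (hr : r ∈ maximalIdeal R) (hπ : Prime π)
    (Q : Ideal (MvPolynomial (Fin 2) R)) [Q.IsPrime] (h1 : prel r ∈ Q) (h2 : MvPolynomial.C π ∈ Q) :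
    ∃ J ≤ Q, Cand r π J := by
  by_cases hπr : π ∣ r
  · have hxy : MvPolynomial.X (0 : Fin 2) * MvPolynomial.X 1 ∈ Q := by
      rw [← sub_add_cancel (MvPolynomial.X (0 : Fin 2) * MvPolynomial.X 1) (MvPolynomial.C r)]
      refine add_mem h1 ?_
      obtain ⟨c, rfl⟩ := hπr
      rw [map_mul]
      exact Ideal.mul_mem_right _ _ h2
    rcases ‹Q.IsPrime›.mem_or_mem hxy with hx | hy
    · exact ⟨_, Ideal.span_le.2 (Set.pair_subset h2 hx), cand_of_dvd hπ hπr 1⟩
    · exact ⟨_, Ideal.span_le.2 (Set.pair_subset h2 hy), cand_of_dvd hπ hπr 0⟩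
  · exact ⟨_, Ideal.span_le.2 (Set.pair_subset h2 h1), cand_of_not_dvd hr hπ hπr⟩

theorem height_eq_one_of_minimal {S : Type u} [CommRing S] [IsNoetherianRing S] [IsDomain S]
    {c : Ideal S} [c.IsPrime] {a : S} (ha : a ∈ c) (ha0 : a ≠ 0)
    (hmin : ∀ Q : Ideal S, Q.IsPrime → a ∈ Q → Q ≤ c → c ≤ Q) : c.height = 1 := by
  refine le_antisymm (Ideal.height_le_one_of_isPrincipal_of_mem_minimalPrimes (Ideal.span {a}) c
    ⟨⟨inferInstance, (Ideal.span_singleton_le_iff_mem c).2 ha⟩, fun Q hQ hle =>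
      hmin Q hQ.1 (hQ.2 (Ideal.mem_span_singleton_self a)) hle⟩) ?_
  rw [Order.one_le_iff_ne_zero, Ne, Ideal.height_eq_zero_iff,
    show (minimalPrimes S) = {⊥} from IsDomain.minimalPrimes_eq_singleton_bot S]
  exact fun h => ha0 (Ideal.mem_bot.1 (h ▸ ha))

theorem eq_of_le_of_height_eq_one {S : Type u} [CommRing S] [IsNoetherianRing S]
    {c Q : Ideal S} [c.IsPrime] [Q.IsPrime] (hle : c ≤ Q) (hc : c.height = 1) (hQ : Q.height = 1) :
    c = Q := by
  by_contra hne
  haveI : Q.FiniteHeight := ⟨Or.inr (by rw [hQ]; exact ENat.one_ne_top)⟩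
  have := Ideal.height_strict_mono_of_isPrime_of_isPrime (lt_of_le_of_ne hle hne)
  rw [hc, hQ] at this
  exact lt_irrefl _ this

section Main

variable [UniqueFactorizationMonoid R] {r : R}

local notation "A'" => (MvPowerSeries (Fin 2) R ⧸ Ideal.span
  {(MvPowerSeries.X 0 * MvPowerSeries.X 1 - MvPowerSeries.C r : MvPowerSeries (Fin 2) R)})
local notation "B'" => (MvPolynomial (Fin 2) R ⧸ Ideal.span
  {(MvPolynomial.X 0 * MvPolynomial.X 1 - MvPolynomial.C r : MvPolynomial (Fin 2) R)})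

theorem bijOn_comap (hr : r ∈ maximalIdeal R) (hr0 : r ≠ 0) (P : Ideal B') [P.IsPrime]
    (T : Type u) [CommRing T] [Algebra B' T] [IsLocalization.AtPrime T P] [Algebra R T]
    [IsScalarTower R B' T] (ι : B' →+* A') (hι : ∀ z, ι (Ideal.Quotient.mk _ z) = Ideal.Quotient.mk _ (cR z))
    (φ : T →+* A') (hφ : ∀ b, φ (algebraMap B' _ b) = ι b) :
    Set.BijOn (fun 𝔓 => Ideal.comap φ 𝔓)
      {𝔓 : Ideal A' | 𝔓.IsPrime ∧ 𝔓.height = 1 ∧ Ideal.comap (algebraMap R A') 𝔓 ≠ ⊥}
      {𝔮 : Ideal T | 𝔮.IsPrime ∧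
        @Ideal.height T _ 𝔮 = 1 ∧
        Ideal.comap (algebraMap R T) 𝔮 ≠ ⊥} := by
  classical
  let kA := Ideal.Quotient.mk (Ideal.span
    {(MvPowerSeries.X 0 * MvPowerSeries.X 1 - MvPowerSeries.C r : MvPowerSeries (Fin 2) R)})
  let kB := Ideal.Quotient.mk (Ideal.span
    {(MvPolynomial.X 0 * MvPolynomial.X 1 - MvPolynomial.C r : MvPolynomial (Fin 2) R)})
  let g : MvPolynomial (Fin 2) R →+* T := (algebraMap B' T).comp kB
  have hg : ∀ z, φ (g z) = kA (cR z) := fun z => (hφ _).trans (hι z)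
  have hgC : ∀ c, algebraMap R T c = g (MvPolynomial.C c) := fun c =>
    IsScalarTower.algebraMap_apply R B' T c
  have hAC : ∀ c, algebraMap R A' c = kA (MvPowerSeries.C c) := fun c => rfl
  have hφR : ∀ c, φ (algebraMap R T c) = algebraMap R A' c := fun c => by
    rw [hgC, hg, cR_C, hAC]
  haveI : IsNoetherianRing A' := inferInstance
  have hkA : Function.Surjective kA := Ideal.Quotient.mk_surjective
  haveI hAd : IsDomain A' := by
    haveI : (Ideal.span {(MvPowerSeries.X 0 * MvPowerSeries.X 1 - MvPowerSeries.C r :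
        MvPowerSeries (Fin 2) R)}).IsPrime := by
      show (Ideal.span {rel r}).IsPrime
      refine ⟨fun htop => ?_, fun {f g} h => mem_or_mem hr hr0 h⟩
      have h1 := Ideal.mem_span_singleton.1 ((Ideal.eq_top_iff_one _).1 htop)
      have h2 := MvPowerSeries.isUnit_iff_constantCoeff.1 (isUnit_of_dvd_one h1)
      rw [rel, map_sub, map_mul, MvPowerSeries.constantCoeff_X, zero_mul, zero_sub,
        MvPowerSeries.constantCoeff_C, IsUnit.neg_iff] at h2
      exact hr h2
    exact Ideal.Quotient.isDomain _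
  have hιinj : Function.Injective ι := (injective_iff_map_eq_zero ι).2 fun b hb => by
    obtain ⟨z, rfl⟩ := Ideal.Quotient.mk_surjective b
    rw [hι, Ideal.Quotient.eq_zero_iff_mem] at hb
    exact Ideal.Quotient.eq_zero_iff_mem.2 (mem_prel_of_coe_mem hr hb)
  have hclear : ∀ w : T, ∃ (z : MvPolynomial (Fin 2) R) (s : P.primeCompl),
      w * algebraMap B' T (s : B') = g z := fun w => by
    obtain ⟨⟨b, s⟩, h⟩ := IsLocalization.surj P.primeCompl w
    obtain ⟨z, rfl⟩ := Ideal.Quotient.mk_surjective b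
    exact ⟨z, s, h⟩
  have hunit : ∀ s : P.primeCompl, IsUnit (algebraMap B' T (s : B')) := fun s =>
    IsLocalization.map_units T s
  have hφ0 : ∀ w, φ w = 0 → w = 0 := fun w hw => by
    obtain ⟨z, s, h⟩ := hclear w
    have h1 : ι (kB z) = 0 := by
      rw [← hφ, show algebraMap B' T (kB z) = g z from rfl, ← h, φ.map_mul,
        hw, zero_mul]
    have h2 : g z = 0 := by
      show algebraMap B' T (kB z) = 0
      rw [hιinj (h1.trans ι.map_zero.symm), map_zero]
    rw [h2] at h
    exact (hunit s).mul_left_eq_zero.1 h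
  have hφinj : Function.Injective φ := fun w₁ w₂ h =>
    sub_eq_zero.1 (hφ0 _ (by rw [φ.map_sub, h, sub_self]))
  haveI : IsDomain T := hφinj.isDomain φ
  haveI : IsNoetherianRing T := IsLocalization.isNoetherianRing P.primeCompl T inferInstance
  have hkrel : kA (rel r) = 0 :=
    Ideal.Quotient.eq_zero_iff_mem.2 (Ideal.mem_span_singleton_self _)
  have hkprel : kB (prel r) = 0 :=
    Ideal.Quotient.eq_zero_iff_mem.2 (Ideal.mem_span_singleton_self _)
  have hC0 : ∀ π : R, π ≠ 0 → algebraMap R A' π ≠ 0 := fun π hπ0 h => by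
    rw [hAC, Ideal.Quotient.eq_zero_iff_mem] at h
    replace h : ((MvPolynomial.C π : MvPolynomial (Fin 2) R) : MvPowerSeries (Fin 2) R) ∈
        Ideal.span {rel r} := by rw [MvPolynomial.coe_C]; exact h
    have h1 : ((MvPolynomial.C π : MvPolynomial (Fin 2) R) : MvPowerSeries (Fin 2) R) = 0 :=
      eq_zero_of_axes_mem hr h fun d h0 _ => by
        rw [MvPolynomial.coe_C, MvPowerSeries.coeff_C, if_neg]
        rintro rfl
        exact h0 rfl
    rw [MvPolynomial.coe_C] at h1
    exact hπ0 (by simpa using congrArg MvPowerSeries.constantCoeff h1)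
  -- the candidate ideals in `A'`
  have cand : ∀ π, Prime π → ∀ J, Cand r π J →
      ((J.map cR).map kA).IsPrime ∧ ((J.map cR).map kA).height = 1 ∧
      algebraMap R A' π ∈ (J.map cR).map kA ∧
      ∀ z, kA (cR z) ∈ (J.map cR).map kA → z ∈ J := by
    intro π hπ J hJ
    obtain ⟨hprime, hmem, hrel, hCJ, hmin⟩ := hJ
    have hle : RingHom.ker kA ≤ J.map cR := by
      rw [Ideal.mk_ker, Ideal.span_singleton_le_iff_mem]
      show rel r ∈ _
      rw [← cR_prel]
      exact Ideal.mem_map_of_mem _ hrel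
    have hcomap : ((J.map cR).map kA).comap kA = J.map cR := by
      rw [Ideal.comap_map_of_surjective _ hkA, ← RingHom.ker_eq_comap_bot, sup_eq_left.2 hle]
    haveI := hprime
    haveI hp : ((J.map cR).map kA).IsPrime := Ideal.map_isPrime_of_surjective hkA hle
    have hπJ : algebraMap R A' π ∈ (J.map cR).map kA := by
      rw [hAC]
      show kA (MvPowerSeries.C π) ∈ _
      have := Ideal.mem_map_of_mem kA (Ideal.mem_map_of_mem cR hCJ)
      rwa [cR_C] at this
    refine ⟨hp, height_eq_one_of_minimal hπJ (hC0 π hπ.ne_zero) fun Q hQ hπQ hQle => ?_, hπJ,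
      fun z hz => hmem z ((SetLike.ext_iff.1 hcomap _).1 hz)⟩
    haveI := hQ
    have hJQ : J ≤ Q.comap (kA.comp cR) := by
      refine hmin _ inferInstance ?_ ?_ fun z hz => hmem z ((SetLike.ext_iff.1 hcomap _).1 (hQle hz))
      · show kA (cR (prel r)) ∈ Q
        rw [cR_prel, hkrel]
        exact zero_mem _
      · show kA (cR (MvPolynomial.C π)) ∈ Q
        rw [cR_C, ← hAC]
        exact hπQ
    rw [Ideal.map_le_iff_le_comap, Ideal.map_le_iff_le_comap]
    exact hJQ
  have candT : ∀ π, Prime π → ∀ J, Cand r π J →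
      (((J.map cR).map kA).comap φ).IsPrime ∧
      (((J.map cR).map kA).comap φ).height = 1 ∧
      ∀ q : Ideal T, J ≤ q.comap g → ((J.map cR).map kA).comap φ ≤ q := by
    intro π hπ J hJ
    obtain ⟨hp, -, hπC, hback⟩ := cand π hπ J hJ
    have hq : ∀ q : Ideal T, J ≤ q.comap g → ((J.map cR).map kA).comap φ ≤ q := by
      intro q hJq w hw
      obtain ⟨z, s, h⟩ := hclear w
      have h1 : kA (cR z) ∈ (J.map cR).map kA := by
        rw [← hg, ← h, map_mul]
        exact Ideal.mul_mem_right _ _ hw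
      have h2 : g z ∈ q := hJq (hback z h1)
      rw [← h] at h2
      exact (Ideal.mul_unit_mem_iff_mem q (hunit s)).1 h2
    refine ⟨inferInstance, height_eq_one_of_minimal (a := algebraMap R T π) ?_ ?_ ?_, hq⟩
    · rw [Ideal.mem_comap, hφR]; exact hπC
    · intro h
      exact hC0 π hπ.ne_zero (by rw [← hφR, h, φ.map_zero])
    · intro Q hQ hπQ hQle
      haveI := hQ
      refine hq Q (hJ.2.2.2.2 _ inferInstance ?_ ?_ fun z hz => hback z ?_)
      · show algebraMap B' T (kB (prel r)) ∈ Q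
        rw [hkprel, map_zero]
        exact zero_mem _
      · rw [Ideal.mem_comap, ← hgC]; exact hπQ
      · rw [← hg]; exact hQle hz
  have hprel : ∀ q : Ideal T, prel r ∈ q.comap g := fun q => by
    show algebraMap B' T (kB (prel r)) ∈ q
    rw [hkprel, map_zero]
    exact zero_mem _
  have key : ∀ 𝔓 : Ideal A', 𝔓.IsPrime → 𝔓.height = 1 → ∀ π, Prime π →
      algebraMap R A' π ∈ 𝔓 → ∃ J, Cand r π J ∧ J ≤ (𝔓.comap φ).comap g ∧ (J.map cR).map kA = 𝔓 := by
    intro 𝔓 h𝔓 hht π hπ hπ𝔓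
    haveI := h𝔓
    obtain ⟨J, hJle, hJ⟩ := exists_cand hr hπ ((𝔓.comap φ).comap g) (hprel _) (by
      rw [Ideal.mem_comap, ← hgC, Ideal.mem_comap, hφR]; exact hπ𝔓)
    obtain ⟨hp, hhC, -, -⟩ := cand π hπ J hJ
    refine ⟨J, hJ, hJle, eq_of_le_of_height_eq_one ?_ hhC hht⟩
    rw [Ideal.map_le_iff_le_comap, Ideal.map_le_iff_le_comap]
    intro z hz
    show kA (cR z) ∈ 𝔓
    rw [← hg]
    exact hJle hz
  refine ⟨?_, ?_, ?_⟩
  · rintro 𝔓 ⟨h𝔓, hht, hfib⟩
    obtain ⟨π, hπ𝔓, hπ⟩ := Ideal.IsPrime.exists_mem_prime_of_ne_bot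
      (h𝔓.comap (algebraMap R A')) hfib
    obtain ⟨J, hJ, -, rfl⟩ := key 𝔓 h𝔓 hht π hπ hπ𝔓
    obtain ⟨h1, h2, -⟩ := candT π hπ J hJ
    refine ⟨h1, h2, fun hbot => hπ.ne_zero ?_⟩
    have h3 : π ∈ Ideal.comap (algebraMap R T) (((J.map cR).map kA).comap φ) := by
      rw [Ideal.mem_comap, Ideal.mem_comap, hφR]; exact hπ𝔓
    rwa [hbot, Ideal.mem_bot] at h3
  · rintro P₁ ⟨hP₁, hh₁, hfib⟩ P₂ ⟨hP₂, hh₂, -⟩ heq
    obtain ⟨π, hπ𝔓, hπ⟩ := Ideal.IsPrime.exists_mem_prime_of_ne_bot
      (hP₁.comap (algebraMap R A')) hfib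
    obtain ⟨J, hJ, hJle, rfl⟩ := key P₁ hP₁ hh₁ π hπ hπ𝔓
    haveI := hP₁
    haveI := hP₂
    refine eq_of_le_of_height_eq_one ?_ hh₁ hh₂
    rw [Ideal.map_le_iff_le_comap, Ideal.map_le_iff_le_comap]
    intro z hz
    show kA (cR z) ∈ P₂
    rw [← hg]
    exact (SetLike.ext_iff.1 heq _).1 (hJle hz)
  · rintro q ⟨hq, hht, hfib⟩
    haveI := hq
    obtain ⟨π, hπq, hπ⟩ := Ideal.IsPrime.exists_mem_prime_of_ne_bot
      (hq.comap (algebraMap R T)) hfib
    obtain ⟨J, hJle, hJ⟩ := exists_cand hr hπ (q.comap g) (hprel q) (by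
      rw [Ideal.mem_comap, ← hgC]; exact hπq)
    obtain ⟨hp, hhC, hπC, -⟩ := cand π hπ J hJ
    obtain ⟨hcT, hhT, hle⟩ := candT π hπ J hJ
    refine ⟨_, ⟨hp, hhC, fun hbot => hπ.ne_zero ?_⟩,
      eq_of_le_of_height_eq_one (hle q hJle) hhT hht⟩
    rw [← Ideal.mem_bot, ← hbot]
    exact hπC

end Main

end Groth.Agent.H24.NodeRing
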