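import Groth.Agent.H24.NodeRing.Units
import Groth.Agent.Lib.Regular.Quotient
import Groth.Agent.Lib.Regular.UFD
import Mathlib.RingTheory.Localization.BaseChange

/-!
# Units of `R[[x, y]]/(xy - r)` away from the special fibre
-/

set_option autoImplicit false
set_option linter.style.haveILetI false

universe u

open IsLocalRing MvPowerSeries
open scoped TensorProduct

namespace Groth.Agent.H24.NodeRing

/-- `D[[x, y]]/(xy - r)` is a domain for a complete local domain `D`. -/
theorem mem_or_mem {D : Type u} [CommRing D] [IsDomain D] [IsLocalRing D] [IsNoetherianRing D]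
    [IsAdicComplete (maximalIdeal D) D] {r : D} (hr : r ∈ maximalIdeal D) (hr0 : r ≠ 0)
    {f g : MvPowerSeries (Fin 2) D} (h : f * g ∈ Ideal.span {rel r}) :
    f ∈ Ideal.span {rel r} ∨ g ∈ Ideal.span {rel r} := by
  classical
  let Ω := AlgebraicClosure (FractionRing D)
  haveI : FaithfulSMul D Ω := (faithfulSMul_iff_algebraMap_injective D Ω).2 (by
    rw [IsScalarTower.algebraMap_eq D (FractionRing D) Ω]
    exact (algebraMap (FractionRing D) Ω).injective.comp (IsFractionRing.injective D (FractionRing D)))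
  obtain ⟨β, hβ⟩ := IsAlgClosed.exists_pow_nat_eq (algebraMap D Ω r) (n := 2) (by omega)
  let R' := integralClosure D Ω
  let β' : R' := ⟨β, IsIntegral.of_pow (n := 2) (by omega) (hβ ▸ isIntegral_algebraMap)⟩
  let F : MvPolynomial Unit D →ₐ[D] R' := MvPolynomial.aeval fun _ => β'
  let fh : MvPolynomial Unit D →+* Ω := (R'.val.comp F).toRingHom
  have hfC : ∀ z : D, fh (MvPolynomial.C z) = algebraMap D Ω z := fun z => (R'.val.comp F).commutes z
  have hfX : fh (MvPolynomial.X ()) = β := congrArg Subtype.val (MvPolynomial.aeval_X _ ())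
  have hker' : RingHom.ker (algebraMap D R') ≤ maximalIdeal D := by
    intro z hz
    have h1 : algebraMap D Ω z = 0 := congrArg Subtype.val (RingHom.mem_ker.1 hz)
    rw [(map_eq_zero_iff _ (FaithfulSMul.algebraMap_injective D Ω)).1 h1]
    exact zero_mem _
  obtain ⟨Q, hQ, hQc⟩ :=
    Ideal.exists_ideal_over_prime_of_isIntegral_of_isDomain (S := R') (maximalIdeal D) hker'
  haveI := hQ
  let P := Q.comap F.toRingHom
  have hCr : (MvPolynomial.C r : MvPolynomial Unit D) ∈ P := by
    show F (MvPolynomial.C r) ∈ Q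
    rw [show F (MvPolynomial.C r) = algebraMap D R' r from F.commutes r, ← Ideal.mem_comap, hQc]
    exact hr
  have hlt : RingHom.ker fh < P := by
    refine lt_of_le_not_ge (fun z hz => ?_) fun hle => ?_
    · show F z ∈ Q
      rw [show F z = 0 from Subtype.ext hz]
      exact zero_mem _
    · have h1 := RingHom.mem_ker.1 (hle hCr)
      rw [hfC] at h1
      exact hr0 ((map_eq_zero_iff _ (FaithfulSMul.algebraMap_injective D Ω)).1 h1)
  haveI : P.IsPrime := Ideal.IsPrime.comap _
  obtain ⟨V, _, _, _, ψ, hker, hP⟩ := exists_place fh P hlt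
  obtain ⟨ϖ, hϖ⟩ := IsDiscreteValuationRing.exists_irreducible V
  have hz : ∀ z, ψ z = 0 ↔ fh z = 0 := fun z => by rw [← RingHom.mem_ker, hker, RingHom.mem_ker]
  let φ : D →+* V := ψ.comp MvPolynomial.C
  let x := ψ (MvPolynomial.X ())
  have hx2 : x * x = φ r := by
    rw [← sub_eq_zero, RingHom.comp_apply, ← map_mul, ← map_sub, hz, map_sub, map_mul, hfC, hfX,
      ← sq, hβ, sub_self]
  have hxm : x ∈ maximalIdeal V := by
    have hmem : φ r ∈ maximalIdeal V := by rw [RingHom.comp_apply, ← Ideal.mem_comap, hP]; exact hCr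
    exact (maximalIdeal.isMaximal V).isPrime.mem_of_pow_mem 2 (by rw [sq, hx2]; exact hmem)
  have hφ : Function.Injective φ := (injective_iff_map_eq_zero _).2 fun z hz' => by
    have := (hz _).1 hz'
    rw [hfC] at this
    exact (map_eq_zero_iff _ (FaithfulSMul.algebraMap_injective D Ω)).1 this
  have hx0 : x ≠ 0 := fun h0 => hr0 (hφ (by rw [← hx2, h0, mul_zero, map_zero]))
  obtain ⟨a, b, hab⟩ := exists_axes (maximalIdeal D) hr f
  obtain ⟨a', b', hab'⟩ := exists_axes (maximalIdeal D) hr g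
  have hzero : ∀ a b : ℕ → D, (∀ i, tau φ x x a b i = 0) → axes a b = 0 := by
    intro a b ht
    have ha : ∀ m, a m = 0 := fun m => hφ (by
      rw [map_zero]
      exact (mul_eq_zero.1 (ht (Int.ofNat m))).resolve_right (pow_ne_zero _ hx0))
    have hb : ∀ m, b m = 0 := fun m => hφ (by
      rw [map_zero]
      exact (mul_eq_zero.1 (ht (Int.negSucc m))).resolve_right (pow_ne_zero _ hx0))
    ext d
    rw [coeff_axes, ha, hb]
    simp
  have h' : axes a b * axes a' b' ∈ Ideal.span {rel r} := by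
    rw [← Ideal.Quotient.eq_zero_iff_mem] at h ⊢
    rw [← Ideal.Quotient.eq] at hab hab'
    rw [map_mul, ← hab, ← hab', ← map_mul, h]
  rcases eq_zero_of_mul φ x x hϖ hxm hxm hx2 a b a' b' h' with h0 | h0
  · left; simpa [hzero a b h0] using hab
  · right; simpa [hzero a' b' h0] using hab'

variable {R : Type u} [CommRing R] [IsDomain R] [IsLocalRing R] [IsNoetherianRing R]
  [IsAdicComplete (maximalIdeal R) R]

/-- A prime `π` not dividing `r` dividing a product divides a factor. -/
theorem exists_C_mul {r π : R} (hr : r ∈ maximalIdeal R) (hπ : Prime π) (hπr : ¬ π ∣ r)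
    {f g : MvPowerSeries (Fin 2) R} {c : R}
    (h : f * g - MvPowerSeries.C (π * c) ∈ Ideal.span {rel r}) :
    (∃ f' : MvPowerSeries (Fin 2) R, f - MvPowerSeries.C π * f' ∈ Ideal.span {rel r}) ∨
      ∃ g' : MvPowerSeries (Fin 2) R, g - MvPowerSeries.C π * g' ∈ Ideal.span {rel r} := by
  let I := Ideal.span {π}
  haveI : I.IsPrime := (Ideal.span_singleton_prime hπ.ne_zero).2 hπ
  haveI : IsLocalRing (R ⧸ I) := .of_surjective' (Ideal.Quotient.mk I) Ideal.Quotient.mk_surjective
  let p := Ideal.Quotient.mk I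
  haveI : IsLocalHom p := .of_surjective _ Ideal.Quotient.mk_surjective
  have hmax : (maximalIdeal R).map p = maximalIdeal (R ⧸ I) :=
    IsLocalRing.map_maximalIdeal_of_surjective p Ideal.Quotient.mk_surjective
  haveI : IsAdicComplete (maximalIdeal (R ⧸ I)) (R ⧸ I) :=
    hmax ▸ Groth.Agent.Lib.Adic.Complete.isAdicComplete_quotient I
  let q := MvPowerSeries.map (σ := Fin 2) p
  have hqrel : q (rel r) = rel (p r) := by
    simp [rel, q]
  have hlift : ∀ F : MvPowerSeries (Fin 2) R, q F ∈ Ideal.span {rel (p r)} →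
      ∃ F' : MvPowerSeries (Fin 2) R, F - MvPowerSeries.C π * F' ∈ Ideal.span {rel r} := by
    intro F hF
    obtain ⟨H, hH⟩ := Ideal.mem_span_singleton'.1 hF
    choose H' hH' using fun d => Ideal.Quotient.mk_surjective (I := I) (coeff d H)
    let G : MvPowerSeries (Fin 2) R := fun d => H' d
    have hG : q G = H := by
      ext d
      rw [MvPowerSeries.coeff_map]
      exact hH' d
    have hdvd : ∀ d, π ∣ coeff d (F - G * rel r) := fun d => by
      rw [← Ideal.mem_span_singleton, ← Ideal.Quotient.eq_zero_iff_mem, ← MvPowerSeries.coeff_map]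
      show coeff d (q (F - G * rel r)) = 0
      rw [map_sub, map_mul, hG, hqrel, hH, sub_self, map_zero]
    choose F' hF' using hdvd
    let F₁ : MvPowerSeries (Fin 2) R := fun d => F' d
    have hC : F - G * rel r = MvPowerSeries.C π * F₁ := by
      ext d
      rw [coeff_C_mul]
      exact hF' d
    exact ⟨F₁, Ideal.mem_span_singleton'.2 ⟨G, by rw [← hC, sub_sub_cancel]⟩⟩
  have hpr : p r ∈ maximalIdeal (R ⧸ I) := hmax ▸ Ideal.mem_map_of_mem p hr
  have hpr0 : p r ≠ 0 := fun h0 =>
    hπr (Ideal.mem_span_singleton.1 (Ideal.Quotient.eq_zero_iff_mem.1 h0))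
  have hqC : q (MvPowerSeries.C (π * c)) = 0 := by
    rw [show q (MvPowerSeries.C (π * c)) = MvPowerSeries.C (p (π * c)) from MvPowerSeries.map_C ..,
      show p (π * c) = 0 from Ideal.Quotient.eq_zero_iff_mem.2
        (Ideal.mem_span_singleton.2 (dvd_mul_right π c)), map_zero]
  have hmem : q f * q g ∈ Ideal.span {rel (p r)} := by
    obtain ⟨H, hH⟩ := Ideal.mem_span_singleton'.1 h
    refine Ideal.mem_span_singleton'.2 ⟨q H, ?_⟩
    rw [← hqrel, ← map_mul, hH, map_sub, map_mul, hqC, sub_zero]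
  exact (mem_or_mem hpr hpr0 hmem).imp (hlift f) (hlift g)

variable [UniqueFactorizationMonoid R]

/-- An element dividing a non-zero constant is `s xⁿ yᵐ u`. -/
theorem exists_normal_form {r : R} (hr0 : r ≠ 0) (c : R) (hc : c ≠ 0)
    (f g : MvPowerSeries (Fin 2) R) (h : f * g - MvPowerSeries.C c ∈ Ideal.span {rel r}) :
    ∃ (s : R) (m n : ℕ) (u v : MvPowerSeries (Fin 2) R), m * n = 0 ∧
      u * v - 1 ∈ Ideal.span {rel r} ∧
      f - MvPowerSeries.C s * X 0 ^ n * X 1 ^ m * u ∈ Ideal.span {rel r} := by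
  classical
  by_cases hr : r ∈ maximalIdeal R
  swap
  · have htop : Ideal.span {rel r} = ⊤ := by
      refine Ideal.span_singleton_eq_top.2 (MvPowerSeries.isUnit_iff_constantCoeff.2 ?_)
      simpa [rel] using IsLocalRing.notMem_maximalIdeal.1 hr
    exact ⟨1, 0, 0, 1, 1, rfl, by simp [htop], by simp [htop]⟩
  induction c using (wellFounded_dvdNotUnit (α := R)).induction generalizing f g with
  | h c ih =>
  by_cases hprimes : ∀ p, Prime p → p ∣ c → p ∣ r
  · exact core hr hr0 hc hprimes f g h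
  push Not at hprimes
  obtain ⟨π, hπ, ⟨c', rfl⟩, hπr⟩ := hprimes
  have hc' : c' ≠ 0 := right_ne_zero_of_mul hc
  have hlt : DvdNotUnit c' (π * c') := ⟨hc', π, hπ.not_isUnit, mul_comm _ _⟩
  let q := Ideal.Quotient.mk (Ideal.span {rel r})
  rcases exists_C_mul hr hπ hπr h with ⟨f', hf'⟩ | ⟨g', hg'⟩
  · have h' : f' * g - MvPowerSeries.C c' ∈ Ideal.span {rel r} := by
      refine mem_of_C_mul_mem hπ _ ?_
      rw [mul_sub, ← map_mul, ← Ideal.Quotient.eq, ← mul_assoc, map_mul,
        ← Ideal.Quotient.eq.2 hf', ← map_mul]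
      exact Ideal.Quotient.eq.2 h
    obtain ⟨s, m, n, u, v, hmn, huv, hu⟩ := ih c' hlt hc' f' g h'
    refine ⟨π * s, m, n, u, v, hmn, huv, ?_⟩
    rw [← Ideal.Quotient.eq] at hf' hu ⊢
    rw [hf', map_mul, hu]
    simp only [map_mul]
    ring
  · have h' : f * g' - MvPowerSeries.C c' ∈ Ideal.span {rel r} := by
      refine mem_of_C_mul_mem hπ _ ?_
      rw [mul_sub, ← map_mul, ← Ideal.Quotient.eq, mul_left_comm, map_mul,
        ← Ideal.Quotient.eq.2 hg', ← map_mul]
      exact Ideal.Quotient.eq.2 h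
    exact ih c' hlt hc' f g' h'

/-- An element becoming a unit after inverting all non-zero constants divides one. -/
theorem exists_mul_eq (A : Type u) [CommRing A] [Algebra R A] (a : A)
    (ha : IsUnit (a ⊗ₜ[R] (1 : FractionRing R) : A ⊗[R] FractionRing R)) :
    ∃ (b : A) (c : R), c ≠ 0 ∧ a * b = algebraMap R A c := by
  let e := TensorProduct.comm R A (FractionRing R)
  obtain ⟨z, hz⟩ := ha.exists_right_inv
  obtain ⟨⟨b, c⟩, hbc⟩ := IsLocalizedModule.surj (nonZeroDivisors R)
    (TensorProduct.mk R (FractionRing R) A 1) (e z)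
  have hbc' : (c : R) • z = b ⊗ₜ[R] (1 : FractionRing R) := by
    apply e.injective
    rw [map_smul, TensorProduct.comm_tmul]
    exact hbc
  have h2 : (a * b) ⊗ₜ[R] (1 : FractionRing R) = (c : R) • (1 : A ⊗[R] FractionRing R) := by
    rw [← hz, ← mul_smul_comm, hbc', Algebra.TensorProduct.tmul_mul_tmul, one_mul]
  have h3 : TensorProduct.mk R (FractionRing R) A 1 (a * b) =
      TensorProduct.mk R (FractionRing R) A 1 (algebraMap R A c) := by
    have h4 := congrArg e h2
    rw [Algebra.algebraMap_eq_smul_one, map_smul]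
    rw [TensorProduct.comm_tmul, Algebra.TensorProduct.one_def, map_smul, TensorProduct.comm_tmul] at h4
    exact h4
  obtain ⟨d, hd⟩ := (IsLocalizedModule.eq_iff_exists (nonZeroDivisors R) _).1 h3
  refine ⟨(d : R) • b, d * c, mul_ne_zero (nonZeroDivisors.ne_zero d.2) (nonZeroDivisors.ne_zero c.2), ?_⟩
  rw [mul_smul_comm, map_mul, ← Algebra.smul_def]
  exact hd

end Groth.Agent.H24.NodeRing
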