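import Groth.Agent.Lib.DvrCrit.Algebra
import Groth.Agent.Lib.Henselian.Unibranch
import Mathlib.RingTheory.IntegralClosure.IntegrallyClosed
import Mathlib.RingTheory.Polynomial.Basic
import Mathlib.RingTheory.MvPolynomial.Basic

/-!
# Points at which both `θ` and `r/θ` are small
-/

set_option autoImplicit false
set_option linter.style.haveILetI false

universe u

open IsLocalRing

namespace Groth.Agent.H24.NodeRing

/-- A discrete valuation ring centred at a prime, through the kernel of a map to a field. -/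
theorem exists_place {A Ω : Type u} [CommRing A] [IsNoetherianRing A] [Field Ω] (f : A →+* Ω)
    (P : Ideal A) [P.IsPrime] (h : RingHom.ker f < P) :
    ∃ (V : Type u) (_ : CommRing V) (_ : IsDomain V) (_ : IsDiscreteValuationRing V) (ψ : A →+* V),
      RingHom.ker ψ = RingHom.ker f ∧ (maximalIdeal V).comap ψ = P := by
  haveI : (RingHom.ker f).IsPrime := RingHom.ker_isPrime f
  let L := FractionRing (A ⧸ RingHom.ker f)
  let g : A →+* L := (algebraMap (A ⧸ RingHom.ker f) L).comp (Ideal.Quotient.mk _)
  have hg : RingHom.ker g = RingHom.ker f := by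
    ext a
    rw [RingHom.mem_ker, RingHom.comp_apply,
      map_eq_zero_iff _ (IsFractionRing.injective (A ⧸ RingHom.ker f) L), Ideal.Quotient.eq_zero_iff_mem]
  have hcl : Subfield.closure (Set.range g ∪ ((∅ : Finset L) : Set L)) = ⊤ := by
    refine eq_top_iff.2 fun z _ => ?_
    obtain ⟨a, b, -, rfl⟩ := IsFractionRing.div_surjective (A ⧸ RingHom.ker f) z
    obtain ⟨a, rfl⟩ := Ideal.Quotient.mk_surjective a
    obtain ⟨b, rfl⟩ := Ideal.Quotient.mk_surjective b
    exact div_mem (Subfield.subset_closure (Or.inl ⟨a, rfl⟩))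
      (Subfield.subset_closure (Or.inl ⟨b, rfl⟩))
  obtain ⟨W, hW, hmem, hcomap⟩ := Groth.Agent.Lib.DvrCrit.exists_dvr g ∅ hcl P (hg.le.trans_lt h)
  haveI := hW
  refine ⟨W, inferInstance, inferInstance, hW, g.codRestrict W.toSubring hmem, ?_, hcomap⟩
  refine Eq.trans ?_ hg
  ext a
  exact ⟨fun ha => congrArg Subtype.val ha, fun ha => Subtype.ext ha⟩

variable {R Ω : Type u} [CommRing R] [Field Ω] [Algebra R Ω]

/-- A relation of an element not integral in either direction has all coefficients small. -/
theorem coeff_mem {R' : Type u} [CommRing R'] [IsLocalRing R'] [Algebra R' Ω]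
    [FaithfulSMul R' Ω] (hclosed : ∀ z : Ω, IsIntegral R' z → z ∈ Set.range (algebraMap R' Ω))
    (θ : Ω) (h1 : θ ∉ Set.range (algebraMap R' Ω)) (h2 : θ⁻¹ ∉ Set.range (algebraMap R' Ω)) :
    ∀ p : Polynomial R', Polynomial.aeval θ p = 0 → ∀ i, p.coeff i ∈ maximalIdeal R' := by
  intro p
  induction hd : p.natDegree using Nat.strong_induction_on generalizing p with
  | _ d ih =>
    intro hp
    by_cases hp0 : p = 0
    · simp [hp0]
    obtain ⟨d', rfl⟩ : ∃ d', d = d' + 1 := by
      refine Nat.exists_eq_succ_of_ne_zero fun h0 => hp0 ?_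
      rw [Polynomial.eq_C_of_natDegree_eq_zero (hd.trans h0), Polynomial.aeval_C] at hp
      rw [Polynomial.eq_C_of_natDegree_eq_zero (hd.trans h0),
        (map_eq_zero_iff _ (FaithfulSMul.algebraMap_injective R' Ω)).1 hp, map_zero]
    obtain ⟨b, hb⟩ := hclosed _ (isIntegral_leadingCoeff_smul p θ hp)
    rw [Algebra.smul_def] at hb
    let q := p.eraseLead + Polynomial.C b * Polynomial.X ^ d'
    have hq : Polynomial.aeval θ q = 0 := by
      rw [← hp]
      conv_rhs => rw [← p.eraseLead_add_C_mul_X_pow, hd]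
      simp only [q, map_add, map_mul, map_pow, Polynomial.aeval_C, Polynomial.aeval_X, hb]
      ring
    have hqd : q.natDegree < d' + 1 := by
      refine Nat.lt_succ_of_le ((Polynomial.natDegree_add_le _ _).trans (max_le ?_ ?_))
      · exact p.eraseLead_natDegree_le.trans (by omega)
      · exact Polynomial.natDegree_C_mul_X_pow_le b d'
    have hmem := ih _ hqd q rfl hq
    have hcoef : ∀ i, q.coeff i =
        (if i = p.natDegree then 0 else p.coeff i) + if i = d' then b else 0 := by
      intro i
      rw [Polynomial.coeff_add, Polynomial.eraseLead_coeff, Polynomial.coeff_C_mul_X_pow]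
    -- the leading coefficient is small
    have hlead : p.coeff (d' + 1) ∈ maximalIdeal R' := by
      by_contra hu
      obtain ⟨w, hw⟩ := IsLocalRing.notMem_maximalIdeal.1 hu
      apply h1
      refine ⟨(↑w⁻¹ : R') * b, ?_⟩
      rw [map_mul, hb, ← mul_assoc, ← map_mul, Polynomial.leadingCoeff, hd, ← hw, Units.inv_mul,
        map_one, one_mul]
    have hbm : b ∈ maximalIdeal R' := by
      by_contra hu
      obtain ⟨w, hw⟩ := IsLocalRing.notMem_maximalIdeal.1 hu
      apply h2
      refine ⟨(↑w⁻¹ : R') * p.leadingCoeff, eq_inv_of_mul_eq_one_left ?_⟩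
      rw [map_mul, mul_assoc, ← hb, ← map_mul, ← hw, Units.inv_mul, map_one]
    intro i
    rcases eq_or_ne i p.natDegree with hi | hi
    · rw [hi, hd]; exact hlead
    · have := hmem i
      rw [hcoef, if_neg hi] at this
      split at this
      · exact (Submodule.add_mem_iff_left _ hbm).1 this
      · simpa using this

/-- If `θ` is not integral in either direction then relations between `θ` and `r/θ` have small
constant term. -/
theorem constantCoeff_mem {R' : Type u} [CommRing R'] [IsLocalRing R'] [Algebra R' Ω] [Algebra R R']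
    [IsScalarTower R R' Ω] [FaithfulSMul R' Ω] [IsLocalHom (algebraMap R R')] [IsLocalRing R]
    (hclosed : ∀ z : Ω, IsIntegral R' z → z ∈ Set.range (algebraMap R' Ω))
    {r : R} (hr : r ∈ maximalIdeal R) (θ : Ω) (hθ : θ ≠ 0)
    (hA : θ ∉ Set.range (algebraMap R' Ω) ∧ θ⁻¹ ∉ Set.range (algebraMap R' Ω))
    (F : MvPolynomial (Fin 2) R)
    (hF : MvPolynomial.aeval ![θ, algebraMap R Ω r / θ] F = 0) :
    MvPolynomial.constantCoeff F ∈ maximalIdeal R := by
  classical
  set χ := algebraMap R Ω r / θ with hχdef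
  have hmap : ∀ a ∈ maximalIdeal R, algebraMap R R' a ∈ maximalIdeal R' :=
    fun a ha hu => ha (IsUnit.of_map (algebraMap R R') a hu)
  let d := F.totalDegree
  let G : Polynomial R' := ∑ e ∈ F.support,
    Polynomial.C (algebraMap R R' (F.coeff e * r ^ e 1)) * Polynomial.X ^ (e 0 + d - e 1)
  have hle : ∀ e ∈ F.support, e 1 ≤ d := fun e he => le_trans
    (by rw [Finsupp.sum_fintype _ _ (fun _ => rfl)]
        exact Finset.single_le_sum (f := fun i => e i) (fun i _ => Nat.zero_le _) (Finset.mem_univ 1))
    (MvPolynomial.le_totalDegree he)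
  have hG : Polynomial.aeval θ G = 0 := by
    rw [show Polynomial.aeval θ G = θ ^ d * MvPolynomial.aeval ![θ, χ] F by
      rw [MvPolynomial.aeval_def, MvPolynomial.eval₂_eq', map_sum, Finset.mul_sum]
      refine Finset.sum_congr rfl fun e he => ?_
      rw [map_mul, map_pow, Polynomial.aeval_C, Polynomial.aeval_X,
        ← IsScalarTower.algebraMap_apply, map_mul, map_pow, Fin.prod_univ_two]
      simp only [Matrix.cons_val_zero, Matrix.cons_val_one]
      rw [show e 0 + d - e 1 = e 0 + (d - e 1) by have := hle e he; omega, pow_add,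
        show θ ^ d = θ ^ e 1 * θ ^ (d - e 1) by rw [← pow_add, Nat.add_sub_cancel' (hle e he)],
        show algebraMap R Ω r ^ e 1 = θ ^ e 1 * χ ^ e 1 by
          rw [← mul_pow, hχdef, mul_div_cancel₀ _ hθ]]
      ring, hF, mul_zero]
  have h1 := coeff_mem hclosed θ hA.1 hA.2 G hG d
  rw [Polynomial.finsetSum_coeff] at h1
  simp only [Polynomial.coeff_C_mul_X_pow] at h1
  by_contra hu
  obtain ⟨w, hw⟩ := IsLocalRing.notMem_maximalIdeal.1 hu
  have h0 : (0 : Fin 2 →₀ ℕ) ∈ F.support := by
    rw [MvPolynomial.mem_support_iff]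
    exact fun h => w.ne_zero (hw.trans h)
  rw [← Finset.add_sum_erase _ _ h0, if_pos (by simp)] at h1
  have h2 := (Submodule.add_mem_iff_left _ (sum_mem fun e he => ?_)).1 h1
  · simp only [Finsupp.coe_zero, Pi.zero_apply, pow_zero, mul_one] at h2
    exact h2 (IsUnit.map (algebraMap R R') ⟨w, hw⟩)
  · split
    · rename_i hde
      obtain ⟨he0, he⟩ := Finset.mem_erase.1 he
      have := hle e he
      refine hmap _ (Ideal.mul_mem_left _ _ (Ideal.pow_mem_of_mem _ hr _ ?_))
      refine Nat.pos_of_ne_zero fun h => he0 (Finsupp.ext fun i => ?_)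
      fin_cases i <;> simp <;> omega
    · exact zero_mem _

variable [IsDomain R] [HenselianLocalRing R] [FaithfulSMul R Ω]

/-- Either `1/θ` or `θ/r` is integral, or all relations between `θ` and `r/θ` have small constant term. -/
theorem integral_or_small {r : R} (hr : r ∈ maximalIdeal R) (hr0 : r ≠ 0) (θ : Ω) (hθ : θ ≠ 0) :
    IsIntegral R θ⁻¹ ∨ IsIntegral R (θ / algebraMap R Ω r) ∨
      ∀ F : MvPolynomial (Fin 2) R, MvPolynomial.aeval ![θ, algebraMap R Ω r / θ] F = 0 →
        MvPolynomial.constantCoeff F ∈ maximalIdeal R := by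
  classical
  let R' := integralClosure R Ω
  haveI : IsLocalRing R' := Groth.Agent.Lib.Henselian.Unibranch.isLocalRing_of_isDomain R R'
  haveI : FaithfulSMul R' Ω := (faithfulSMul_iff_algebraMap_injective R' Ω).2 Subtype.val_injective
  have hclosed : ∀ z : Ω, IsIntegral R' z → z ∈ Set.range (algebraMap R' Ω) := fun z hz =>
    ⟨⟨z, isIntegral_trans z hz⟩, rfl⟩
  have hint : ∀ z : Ω, z ∈ Set.range (algebraMap R' Ω) ↔ IsIntegral R z :=
    fun z => ⟨fun ⟨w, hw⟩ => hw ▸ w.2, fun hz => ⟨⟨z, hz⟩, rfl⟩⟩
  haveI : FaithfulSMul R R' := (faithfulSMul_iff_algebraMap_injective R R').2 fun x y h =>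
    FaithfulSMul.algebraMap_injective R Ω (congrArg Subtype.val h)
  haveI : IsLocalHom (algebraMap R R') := RingHom.IsIntegral.isLocalHom
    (Algebra.IsIntegral.isIntegral (R := R) (A := R')) (FaithfulSMul.algebraMap_injective R R')
  set χ := algebraMap R Ω r / θ with hχdef
  have hr' : algebraMap R Ω r ≠ 0 := fun h => hr0 (FaithfulSMul.algebraMap_injective R Ω (by simpa using h))
  have hχ : χ ≠ 0 := div_ne_zero hr' hθ
  by_cases hA : θ ∉ Set.range (algebraMap R' Ω) ∧ θ⁻¹ ∉ Set.range (algebraMap R' Ω)
  · right; right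
    intro F hF
    exact constantCoeff_mem hclosed hr θ hθ hA F hF
  · push Not at hA
    by_cases hθ' : θ ∈ Set.range (algebraMap R' Ω)
    swap
    · exact Or.inl ((hint _).1 (hA hθ'))
    obtain ⟨t, ht⟩ := hθ'
    by_cases htu : IsUnit t
    · left
      obtain ⟨w, hw⟩ := htu
      refine (hint _).1 ⟨(↑w⁻¹ : R'), eq_inv_of_mul_eq_one_left ?_⟩
      rw [← ht, ← hw, ← map_mul, Units.inv_mul, map_one]
    by_cases hχ' : χ ∈ Set.range (algebraMap R' Ω)
    · obtain ⟨c, hc⟩ := hχ'
      by_cases hcu : IsUnit c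
      · right; left
        obtain ⟨w, hw⟩ := hcu
        refine (hint _).1 ⟨(↑w⁻¹ : R'), ?_⟩
        have hcθ : θ / algebraMap R Ω r = χ⁻¹ := by rw [hχdef, inv_div]
        rw [hcθ]
        refine eq_inv_of_mul_eq_one_left ?_
        rw [← hc, ← hw, ← map_mul, Units.inv_mul, map_one]
      right; right
      intro F hF
      by_contra hu
      let G := MvPolynomial.aeval ![t, c] F
      have hG0 : G = 0 := by
        apply FaithfulSMul.algebraMap_injective R' Ω
        simp only [G]
        rw [map_zero, ← hF, MvPolynomial.aeval_def, MvPolynomial.aeval_def,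
          MvPolynomial.eval₂_comp_left (algebraMap R' Ω), ← IsScalarTower.algebraMap_eq]
        congr 1
        funext i
        fin_cases i <;> simp [ht, hc]
      have hsub : G - algebraMap R R' (MvPolynomial.constantCoeff F) ∈ maximalIdeal R' := by
        rw [← Ideal.Quotient.eq]
        show (Ideal.Quotient.mk _) (MvPolynomial.aeval ![t, c] F) = _
        rw [MvPolynomial.aeval_def, MvPolynomial.eval₂_comp_left]
        have hz : (Ideal.Quotient.mk (maximalIdeal R')) ∘ ![t, c] = fun _ => 0 := by
          funext i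
          fin_cases i <;> simpa [Ideal.Quotient.eq_zero_iff_mem] using ‹¬IsUnit _›
        rw [hz, MvPolynomial.eval₂_zero'_apply]
        rfl
      rw [hG0, zero_sub, neg_mem_iff] at hsub
      exact hsub (IsUnit.map (algebraMap R R') (IsLocalRing.notMem_maximalIdeal.1 hu))
    · -- `χ` is not integral, so `χ⁻¹ = θ / r` is, or both directions fail
      by_cases hχi : χ⁻¹ ∈ Set.range (algebraMap R' Ω)
      · right; left
        rw [show θ / algebraMap R Ω r = χ⁻¹ by rw [hχdef, inv_div]]
        exact (hint _).1 hχi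
      right; right
      intro F hF
      -- exchange the roles of `θ` and `χ`
      let F' := MvPolynomial.rename (Equiv.swap (0 : Fin 2) 1) F
      have hF' : MvPolynomial.aeval ![χ, algebraMap R Ω r / χ] F' = 0 := by
        rw [MvPolynomial.aeval_rename, ← hF]
        congr 2
        funext i
        fin_cases i <;> simp [hχdef, div_div_cancel₀ hr']
      have hc0 : MvPolynomial.constantCoeff F' = MvPolynomial.constantCoeff F :=
        MvPolynomial.constantCoeff_rename _ _
      rw [← hc0]
      exact constantCoeff_mem hclosed hr χ hχ ⟨hχ', hχi⟩ F' hF'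

end Groth.Agent.H24.NodeRing
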