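import Groth.Agent.H24.NodeRing.Main
import Mathlib.RingTheory.MvPowerSeries.NoZeroDivisors
import Mathlib.RingTheory.PowerSeries.NoZeroDivisors
import Mathlib.Algebra.MvPolynomial.Division

/-!
# Polynomials inside `R[[x, y]]/(xy - r)`
-/

set_option autoImplicit false
set_option linter.style.haveILetI false

universe u

open IsLocalRing

namespace Groth.Agent.H24.NodeRing

variable {R : Type u} [CommRing R]

/-- `xy - r` as a polynomial. -/
noncomputable def prel (r : R) : MvPolynomial (Fin 2) R :=
  MvPolynomial.X 0 * MvPolynomial.X 1 - MvPolynomial.C r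

theorem coe_prel (r : R) : ((prel r : MvPolynomial (Fin 2) R) : MvPowerSeries (Fin 2) R) = rel r := by
  rw [prel, rel, ← MvPolynomial.coeToMvPowerSeries.ringHom_apply, map_sub, map_mul]
  simp [MvPolynomial.coeToMvPowerSeries.ringHom_apply]

open MvPolynomial in
/-- Modulo `xy - r` a polynomial is supported on the axes. -/
theorem exists_poly_axes (r : R) (z : MvPolynomial (Fin 2) R) :
    ∃ z' : MvPolynomial (Fin 2) R, z - z' ∈ Ideal.span {prel r} ∧
      ∀ d : Fin 2 →₀ ℕ, d 0 ≠ 0 → d 1 ≠ 0 → z'.coeff d = 0 := by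
  have hmon : ∀ (i j : ℕ) (c : R), ∃ z' : MvPolynomial (Fin 2) R,
      C c * X 0 ^ i * X 1 ^ j - z' ∈ Ideal.span {prel r} ∧
      ∀ d : Fin 2 →₀ ℕ, d 0 ≠ 0 → d 1 ≠ 0 → z'.coeff d = 0 := by
    intro i
    induction i with
    | zero =>
      intro j c
      refine ⟨C c * X 1 ^ j, by simp, fun d h0 _ => ?_⟩
      rw [coeff_C_mul, coeff_X_pow, if_neg, mul_zero]
      intro h
      exact h0 (by simp [← h])
    | succ i ih =>
      intro j c
      cases j with
      | zero =>
        refine ⟨C c * X 0 ^ (i + 1), by simp, fun d _ h1 => ?_⟩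
        rw [coeff_C_mul, coeff_X_pow, if_neg, mul_zero]
        intro h
        exact h1 (by simp [← h])
      | succ j =>
        obtain ⟨z', hz', hd⟩ := ih j (c * r)
        refine ⟨z', ?_, hd⟩
        convert add_mem (Ideal.mul_mem_left _ (C c * X 0 ^ i * X 1 ^ j)
          (Ideal.mem_span_singleton_self (prel r))) hz' using 1
        simp only [prel, map_mul]
        ring
  induction z using MvPolynomial.induction_on' with
  | monomial d c =>
    obtain ⟨z', hz', hd⟩ := hmon (d 0) (d 1) c
    refine ⟨z', ?_, hd⟩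
    have e : monomial d c = C c * X 0 ^ (d 0) * X 1 ^ (d 1) := by
      rw [monomial_eq, Finsupp.prod_fintype _ _ (fun i => by simp), Fin.prod_univ_two, mul_assoc]
    rw [e]
    exact hz'
  | add p q hp hq =>
    obtain ⟨p', hp', hd⟩ := hp
    obtain ⟨q', hq', hd'⟩ := hq
    refine ⟨p' + q', ?_, fun d h0 h1 => by rw [coeff_add, hd d h0 h1, hd' d h0 h1, add_zero]⟩
    convert add_mem hp' hq' using 1
    ring

/-- A series supported on the axes is divisible by `xy - r` only if it is zero. -/
theorem eq_zero_of_axes_mem [IsLocalRing R] [IsNoetherianRing R] {r : R} (hr : r ∈ maximalIdeal R)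
    {F : MvPowerSeries (Fin 2) R} (hF : F ∈ Ideal.span {rel r})
    (h : ∀ d : Fin 2 →₀ ℕ, d 0 ≠ 0 → d 1 ≠ 0 → MvPowerSeries.coeff d F = 0) : F = 0 := by
  obtain ⟨H, rfl⟩ := Ideal.mem_span_singleton'.1 hF
  let e : Fin 2 →₀ ℕ := Finsupp.single 0 1 + Finsupp.single 1 1
  have he0 : e 0 = 1 := by simp [e]
  have he1 : e 1 = 1 := by simp [e]
  have hrec : ∀ d, MvPowerSeries.coeff d H = r * MvPowerSeries.coeff (d + e) H := by
    intro d
    have h1 := h (d + e) (by simp [he0]) (by simp [he1])
    rw [rel, mul_comm H, sub_mul, map_sub, MvPowerSeries.coeff_C_mul, coeff_X0X1_mul, if_pos,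
      sub_eq_zero] at h1
    · show MvPowerSeries.coeff d H = _
      rw [← h1]
      exact congrArg (fun t => MvPowerSeries.coeff t H) (add_tsub_cancel_right d e).symm
    · simp [he0, he1]
  have hn : ∀ n d, MvPowerSeries.coeff d H ∈ maximalIdeal R ^ n := by
    intro n
    induction n with
    | zero => simp
    | succ n ih =>
      intro d
      rw [hrec, pow_succ']
      exact Ideal.mul_mem_mul hr (ih _)
  have hH : H = 0 := MvPowerSeries.ext fun d => by
    rw [map_zero, ← Ideal.mem_bot, ← Ideal.iInf_pow_eq_bot_of_isLocalRing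
      (maximalIdeal R) (maximalIdeal.isMaximal R).ne_top, Ideal.mem_iInf]
    exact fun n => hn n d
  rw [hH, zero_mul]

/-- `R[x, y]/(xy - r) → R[[x, y]]/(xy - r)` is injective. -/
theorem mem_prel_of_coe_mem [IsLocalRing R] [IsNoetherianRing R] {r : R} (hr : r ∈ maximalIdeal R)
    {z : MvPolynomial (Fin 2) R} (hz : (z : MvPowerSeries (Fin 2) R) ∈ Ideal.span {rel r}) :
    z ∈ Ideal.span {prel r} := by
  obtain ⟨z', hz', hd⟩ := exists_poly_axes r z
  have h1 : (z' : MvPowerSeries (Fin 2) R) ∈ Ideal.span {rel r} := by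
    have h2 := Ideal.mem_map_of_mem MvPolynomial.coeToMvPowerSeries.ringHom hz'
    rw [Ideal.map_span, Set.image_singleton, map_sub] at h2
    simp only [MvPolynomial.coeToMvPowerSeries.ringHom_apply, coe_prel] at h2
    convert sub_mem hz h2 using 1
    ring
  have h3 : z' = 0 := MvPolynomial.coe_injective _ _ (by
    rw [eq_zero_of_axes_mem hr h1 fun d h0 h1 => by rw [MvPolynomial.coeff_coe]; exact hd d h0 h1,
      MvPolynomial.coe_zero])
  rwa [h3, sub_zero] at hz'

/-- Restriction to the `i`-th axis. -/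
noncomputable def axis (R : Type u) [CommRing R] (i : Fin 2) :
    MvPowerSeries (Fin 2) R →+* PowerSeries R where
  toFun f := PowerSeries.mk fun n => MvPowerSeries.coeff (Finsupp.single i n) f
  map_zero' := by ext n; simp
  map_one' := by
    classical
    ext n
    simp [MvPowerSeries.coeff_one, PowerSeries.coeff_one, Finsupp.single_eq_zero]
  map_add' f g := by ext n; simp
  map_mul' f g := by
    classical
    ext n
    rw [PowerSeries.coeff_mk, MvPowerSeries.coeff_mul, PowerSeries.coeff_mul,
      Finsupp.antidiagonal_single, Finset.sum_map]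
    simp

theorem coeff_axis (i : Fin 2) (f : MvPowerSeries (Fin 2) R) (n : ℕ) :
    PowerSeries.coeff n (axis R i f) = MvPowerSeries.coeff (Finsupp.single i n) f := by
  show PowerSeries.coeff n (PowerSeries.mk fun m => MvPowerSeries.coeff (Finsupp.single i m) f : PowerSeries R) = _
  rw [PowerSeries.coeff_mk]

theorem axis_C (i : Fin 2) (c : R) : axis R i (MvPowerSeries.C c) = PowerSeries.C c := by
  classical
  ext n
  simp [coeff_axis, MvPowerSeries.coeff_C, PowerSeries.coeff_C, Finsupp.single_eq_zero]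

theorem axis_X_self (i : Fin 2) : axis R i (MvPowerSeries.X i) = PowerSeries.X := by
  classical
  ext n
  simp [coeff_axis, MvPowerSeries.coeff_X, PowerSeries.coeff_X,
    (Finsupp.single_injective i).eq_iff]

theorem axis_X_ne (i j : Fin 2) (hij : j ≠ i) : axis R i (MvPowerSeries.X j) = 0 := by
  classical
  ext n
  rw [coeff_axis, MvPowerSeries.coeff_X, if_neg, map_zero]
  intro h
  have := DFunLike.congr_fun h j
  simp [Finsupp.single_apply, Ne.symm hij] at this

theorem axis_rel (i : Fin 2) (r : R) : axis R i (rel r) = - PowerSeries.C r := by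
  rw [rel, map_sub, map_mul, axis_C]
  rcases (show i = 0 ∨ i = 1 by fin_cases i <;> simp) with rfl | rfl
  · rw [show axis R 0 (MvPowerSeries.X 1) = 0 from axis_X_ne 0 1 (by decide), mul_zero, zero_sub]
  · rw [show axis R 1 (MvPowerSeries.X 0) = 0 from axis_X_ne 1 0 (by decide), zero_mul, zero_sub]

end Groth.Agent.H24.NodeRing
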