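import Groth.Agent.H24.NodeRing.Winding
import Groth.Agent.H24.NodeRing.Axes
import Groth.Agent.Lib.Adic.Complete
import Mathlib.RingTheory.MvPowerSeries.Rename
import Mathlib.RingTheory.Henselian
import Groth.Agent.Lib.Henselian.LocalRing

/-!
# Elements of `R[[x, y]]/(xy - r)` dividing a non-zero constant
-/

set_option autoImplicit false
set_option linter.style.haveILetI false

universe u

open IsLocalRing MvPowerSeries

namespace Groth.Agent.H24.NodeRing

variable {R : Type u} [CommRing R] [IsDomain R] [UniqueFactorizationMonoid R]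

/-- An element all whose primes divide `r` divides anything its prime powers divide. -/
theorem dvd_of_pow_dvd {r : R} : ∀ D : R, D ≠ 0 → (∀ p, Prime p → p ∣ D → p ∣ r) → ∀ X : R,
    (∀ π, Prime π → π ∣ r → ∀ k : ℕ, π ^ k ∣ D → π ^ k ∣ X) → D ∣ X := by
  intro D
  refine UniqueFactorizationMonoid.induction_on_prime D (fun h => absurd rfl h)
    (fun u hu _ _ X _ => hu.dvd) ?_
  intro D' p hD' hp ih _ hprimes X h
  have hpr := hprimes p hp (dvd_mul_right p D')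
  obtain ⟨X', rfl⟩ : p ∣ X := by simpa using h p hp hpr 1 (by simp)
  refine mul_dvd_mul_left p (ih hD' (fun q hq hqD => hprimes q hq (dvd_mul_of_dvd_right hqD p)) X' ?_)
  intro q hq hqr k hk
  by_cases hqp : Associated q p
  · have h1 := h q hq hqr (k + 1) (by rw [pow_succ, mul_comm]; exact mul_dvd_mul hqp.dvd hk)
    rw [pow_succ, mul_comm] at h1
    exact (mul_dvd_mul_iff_left hq.ne_zero).1
      (h1.trans (mul_dvd_mul_right hqp.symm.dvd X'))
  · exact hq.pow_dvd_of_dvd_mul_left k (fun hd => hqp (hq.associated_of_dvd hp hd))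
      (h q hq hqr k (hk.trans (dvd_mul_left _ _)))

/-- The part of an element supported on the primes of `r`. -/
theorem exists_split (r : R) : ∀ A : R, A ≠ 0 → ∃ s w : R, A = s * w ∧ s ≠ 0 ∧
    (∀ p, Prime p → p ∣ s → p ∣ r) ∧ ∀ p, Prime p → p ∣ r → ¬ p ∣ w := by
  intro A
  refine UniqueFactorizationMonoid.induction_on_prime A (fun h => absurd rfl h) ?_ ?_
  · intro u hu _
    exact ⟨1, u, (one_mul u).symm, one_ne_zero, fun p hp h => absurd (isUnit_of_dvd_one h) hp.not_isUnit,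
      fun p hp _ h => hp.not_isUnit (isUnit_of_dvd_unit h hu)⟩
  · intro A' q hA' hq ih _
    obtain ⟨s, w, rfl, hs, hs1, hw⟩ := ih hA'
    by_cases hqr : q ∣ r
    · refine ⟨q * s, w, (mul_assoc _ _ _).symm, mul_ne_zero hq.ne_zero hs, fun p hp h => ?_, hw⟩
      rcases hp.dvd_or_dvd h with h1 | h1
      · exact (hp.associated_of_dvd hq h1).dvd.trans hqr
      · exact hs1 p hp h1
    · refine ⟨s, q * w, (mul_left_comm _ _ _), hs, hs1, fun p hp hpr h => ?_⟩
      rcases hp.dvd_or_dvd h with h1 | h1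
      · exact hqr ((hp.associated_of_dvd hq h1).symm.dvd.trans hpr)
      · exact hw p hp hpr h1

theorem dvd_pow_of_primes {r : R} : ∀ c : R, c ≠ 0 → (∀ p, Prime p → p ∣ c → p ∣ r) →
    ∃ M : ℕ, c ∣ r ^ M := by
  intro c
  refine UniqueFactorizationMonoid.induction_on_prime c (fun h => absurd rfl h)
    (fun u hu _ _ => ⟨0, hu.dvd⟩) ?_
  intro c' p hc' hp ih _ h
  obtain ⟨M, hM⟩ := ih hc' fun q hq hqc => h q hq (dvd_mul_of_dvd_right hqc p)
  exact ⟨M + 1, by rw [pow_succ']; exact mul_dvd_mul (h p hp (dvd_mul_right p c')) hM⟩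

variable {r π : R} {K : ℕ}

/-- The value at a point of an element of the base is a power of `x`. -/
theorem Point.value (pt : Point r π K) {α : ℕ} {w z : R} (hz : z = π ^ α * w) (hw : ¬ π ∣ w) :
    Associated (pt.φ z) (pt.x₀ ^ (K * α)) := by
  rw [hz, map_mul, map_pow, ← pt.x_pow, ← pow_mul]
  exact associated_mul_unit_left _ _ (pt.unit w hw)

theorem Point.x_ne_zero (pt : Point r π K) (hπ : π ≠ 0) (hK : 0 < K) : pt.x₀ ≠ 0 := fun h =>
  hπ (pt.inj (by rw [← pt.x_pow, h, zero_pow hK.ne', map_zero]))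

/-- The value of `y`. -/
theorem Point.y_value (pt : Point r π K) (hπ : π ≠ 0) (hK : 0 < K) {e : ℕ} {r' : R}
    (hr : r = π ^ e * r') (hr' : ¬ π ∣ r') : Associated pt.y₀ (pt.x₀ ^ (K * e - 1)) := by
  have h1 := pt.value hr hr'
  rw [← pt.xy] at h1
  rcases Nat.eq_zero_or_pos e with rfl | he
  · rw [Nat.mul_zero, pow_zero, associated_one_iff_isUnit] at h1
    exact absurd (isUnit_of_mul_isUnit_left h1) ((mem_maximalIdeal pt.x₀).1 pt.x_mem)
  · obtain ⟨m, hm⟩ : ∃ m, K * e = m + 1 :=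
      ⟨K * e - 1, by have := Nat.mul_pos hK he; omega⟩
    rw [hm, Nat.add_sub_cancel]
    rw [hm, pow_succ'] at h1
    exact Associated.of_mul_left h1 (Associated.refl _) (pt.x_ne_zero hπ hK)

theorem lt_of_pow_mul_dvd {V : Type u} [CommRing V] [IsDomain V] {x ϖ : V} (hx : x ≠ 0)
    (hϖ : ¬ IsUnit ϖ) {p q : ℕ} (h : x ^ p * ϖ ∣ x ^ q) : p < q := by
  by_contra hle
  obtain ⟨d, rfl⟩ := Nat.exists_eq_add_of_le (not_lt.1 hle)
  rw [pow_add, mul_assoc] at h
  have := (mul_dvd_mul_iff_left (pow_ne_zero q hx)).1 (h.trans (mul_one (x ^ q)).symm.dvd)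
  exact hϖ (isUnit_of_mul_isUnit_right (isUnit_of_dvd_one this))

/-- Dominance of the term `n` at enough points over every prime of `r`. -/
def HasDegree (r : R) (a b : ℕ → R) (n : ℤ) : Prop :=
  ∀ π : R, Prime π → π ∣ r → ∀ K : ℕ, 2 ≤ K → ∃ pt : Point r π K,
    ∀ ϖ : pt.V, Irreducible ϖ →
      Dom ϖ (tau pt.φ pt.x₀ pt.y₀ a b) n ∧ Dom ϖ (tau pt.φ pt.y₀ pt.x₀ a b) n

theorem HasDegree.swap {a b : ℕ → R} {n : ℤ} (h : HasDegree r a b n) :
    HasDegree r (fun m => if m = 0 then a 0 else b (m - 1)) (fun m => a (m + 1)) (-n) := by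
  intro π hπ hπr K hK
  obtain ⟨pt, hpt⟩ := h π hπ hπr K hK
  refine ⟨pt, fun ϖ hϖ => ?_⟩
  have key : ∀ x y : pt.V, Dom ϖ (tau pt.φ x y a b) n →
      Dom ϖ (tau pt.φ y x (fun m => if m = 0 then a 0 else b (m - 1)) (fun m => a (m + 1))) (-n) := by
    intro x y hd
    refine ⟨by rw [tau_swap_neg, neg_neg]; exact hd.1, fun i hi => ?_⟩
    rw [tau_swap_neg, tau_swap_neg, neg_neg]
    exact hd.2 _ (fun h => hi (by omega))
  exact ⟨key _ _ (hpt ϖ hϖ).2, key _ _ (hpt ϖ hϖ).1⟩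

/-- The coefficients are divisible by the dominant one, with the powers of `r` it forces. -/
theorem HasDegree.pow_dvd [IsNoetherianRing R] (hr0 : r ≠ 0) {a b : ℕ → R} {n : ℕ}
    (h : HasDegree r a b n) {π : R} (hπ : Prime π) (hπr : π ∣ r) (k : ℕ) :
    (∀ i, π ^ k ∣ a n → π ^ k ∣ a (n + i)) ∧
      (∀ i, i < n → π ^ k ∣ a n * r ^ (n - i) → π ^ k ∣ a i) ∧
      (∀ j, π ^ k ∣ a n * r ^ n → π ^ k ∣ b j) := by
  obtain ⟨e, r', hr', hre⟩ := WfDvdMonoid.max_power_factor hr0 hπ.irreducible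
  have he : 0 < e := by
    rcases Nat.eq_zero_or_pos e with rfl | he
    · rw [pow_zero, one_mul] at hre; exact absurd (hre ▸ hπr) hr'
    · exact he
  -- read off the dominance at a point
  have read : ∀ (K : ℕ) (pt : Point r π K) (ϖ : pt.V), 2 ≤ K → Irreducible ϖ →
      ∀ (u v : pt.V) (P P' : ℕ), Associated u (pt.x₀ ^ P) → Associated v (pt.x₀ ^ P') →
        u * ϖ ∣ v → P < P' := by
    intro K pt ϖ hK hϖ u v P P' hu hv huv
    exact lt_of_pow_mul_dvd (pt.x_ne_zero hπ.ne_zero (by omega)) hϖ.not_isUnit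
      (((hu.symm.mul_right ϖ).dvd.trans huv).trans hv.dvd)
  have ha : a n ≠ 0 := by
    obtain ⟨pt, hpt⟩ := h π hπ hπr 2 le_rfl
    obtain ⟨ϖ, hϖ⟩ := IsDiscreteValuationRing.exists_irreducible pt.V
    intro h0
    refine (hpt ϖ hϖ).1.1 ?_
    show pt.φ (a n) * pt.x₀ ^ n = 0
    rw [h0, map_zero, zero_mul]
  obtain ⟨α, w, hw, hα⟩ := WfDvdMonoid.max_power_factor ha hπ.irreducible
  have hlt : ∀ {X ξ : R} {β : ℕ}, ¬ π ∣ ξ → X = π ^ β * ξ → ¬ π ^ k ∣ X → β < k := by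
    intro X ξ β _ hX hdvd
    by_contra hle
    exact hdvd (hX ▸ Dvd.dvd.mul_right (pow_dvd_pow π (not_lt.1 hle)) ξ)
  have hge : ∀ d : ℕ, π ^ k ∣ a n * r ^ d → k ≤ α + e * d := by
    intro d hd
    rw [hα, hre, mul_pow, ← pow_mul, mul_mul_mul_comm, ← pow_add] at hd
    refine (pow_dvd_pow_iff hπ.ne_zero hπ.not_isUnit).1 (hπ.pow_dvd_of_dvd_mul_right k ?_ hd)
    intro h
    rcases hπ.dvd_or_dvd h with h | h
    · exact hw h
    · exact hr' (hπ.dvd_of_dvd_pow h)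
  refine ⟨fun i hdvd => ?_, fun i hi hdvd => ?_, fun j hdvd => ?_⟩
  · by_contra hX
    rcases Nat.eq_zero_or_pos i with rfl | hi0
    · exact hX hdvd
    obtain ⟨β, ξ, hξ, hβ⟩ := WfDvdMonoid.max_power_factor
      (a₀ := a (n + i)) (fun h0 => hX (h0 ▸ dvd_zero _)) hπ.irreducible
    obtain ⟨pt, hpt⟩ := h π hπ hπr (i + n + 2) (by omega)
    obtain ⟨ϖ, hϖ⟩ := IsDiscreteValuationRing.exists_irreducible pt.V
    have h1 := read _ pt ϖ (by omega) hϖ _ _ ((i + n + 2) * α + n) ((i + n + 2) * β + (n + i))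
      (by rw [pow_add]; exact (pt.value hα hw).mul_right _)
      (by rw [pow_add pt.x₀ ((i + n + 2) * β)]; exact (pt.value hβ hξ).mul_right _)
      ((hpt ϖ hϖ).1.2 ((n + i : ℕ) : ℤ) (by omega))
    have h2 := hlt hξ hβ hX
    have h3 := hge 0 (by simpa using hdvd)
    rw [Nat.mul_zero, Nat.add_zero] at h3
    nlinarith
  · by_contra hX
    obtain ⟨β, ξ, hξ, hβ⟩ := WfDvdMonoid.max_power_factor
      (a₀ := a i) (fun h0 => hX (h0 ▸ dvd_zero _)) hπ.irreducible
    obtain ⟨pt, hpt⟩ := h π hπ hπr (n + 2) (by omega)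
    obtain ⟨ϖ, hϖ⟩ := IsDiscreteValuationRing.exists_irreducible pt.V
    have hy := pt.y_value hπ.ne_zero (by omega) hre hr'
    have h1 := read _ pt ϖ (by omega) hϖ _ _ ((n + 2) * α + ((n + 2) * e - 1) * n)
      ((n + 2) * β + ((n + 2) * e - 1) * i)
      (by rw [pow_add, pow_mul pt.x₀ _ n]; exact (pt.value hα hw).mul_mul (hy.pow_pow))
      (by rw [pow_add, pow_mul pt.x₀ _ i]; exact (pt.value hβ hξ).mul_mul (hy.pow_pow))
      ((hpt ϖ hϖ).2.2 ((i : ℕ) : ℤ) (by omega))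
    have h2 := hlt hξ hβ hX
    obtain ⟨d, rfl⟩ := Nat.exists_eq_add_of_le hi.le
    rw [Nat.add_sub_cancel_left] at hdvd
    have h3 := hge d hdvd
    obtain ⟨E, hE⟩ : ∃ E, (i + d + 2) * e = E + 1 := ⟨(i + d + 2) * e - 1, by
      have : 0 < (i + d + 2) * e := Nat.mul_pos (by omega) he
      omega⟩
    rw [hE, Nat.add_sub_cancel] at h1
    nlinarith
  · by_contra hX
    obtain ⟨β, ξ, hξ, hβ⟩ := WfDvdMonoid.max_power_factor
      (a₀ := b j) (fun h0 => hX (h0 ▸ dvd_zero _)) hπ.irreducible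
    obtain ⟨pt, hpt⟩ := h π hπ hπr (n + j + 2) (by omega)
    obtain ⟨ϖ, hϖ⟩ := IsDiscreteValuationRing.exists_irreducible pt.V
    have hy := pt.y_value hπ.ne_zero (by omega) hre hr'
    have h1 := read _ pt ϖ (by omega) hϖ _ _ ((n + j + 2) * α + ((n + j + 2) * e - 1) * n)
      ((n + j + 2) * β + (j + 1))
      (by rw [pow_add, pow_mul pt.x₀ _ n]; exact (pt.value hα hw).mul_mul (hy.pow_pow))
      (by rw [pow_add pt.x₀ ((n + j + 2) * β)]; exact (pt.value hβ hξ).mul_right _)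
      ((hpt ϖ hϖ).2.2 (Int.negSucc j) (by omega))
    have h2 := hlt hξ hβ hX
    have h3 := hge n hdvd
    obtain ⟨E, hE⟩ : ∃ E, (n + j + 2) * e = E + 1 := ⟨(n + j + 2) * e - 1, by
      have : 0 < (n + j + 2) * e := Nat.mul_pos (by omega) he
      omega⟩
    rw [hE, Nat.add_sub_cancel] at h1
    nlinarith

/-- An element of degree `n ≥ 0` is `s xⁿ u`. -/
theorem HasDegree.factor [IsNoetherianRing R] (hr0 : r ≠ 0) {a b : ℕ → R} {n : ℕ}
    (h : HasDegree r a b n) (han : a n ≠ 0) :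
    ∃ (s w : R) (u : MvPowerSeries (Fin 2) R), a n = s * w ∧ s ≠ 0 ∧
      (∀ p, Prime p → p ∣ s → p ∣ r) ∧ (∀ p, Prime p → p ∣ r → ¬ p ∣ w) ∧
      axes a b - MvPowerSeries.C s * X 0 ^ n * u ∈ Ideal.span {rel r} := by
  obtain ⟨s, w, hsw, hs, hs1, hw⟩ := exists_split r (a n) han
  have hprimes : ∀ j : ℕ, ∀ p, Prime p → p ∣ s * r ^ j → p ∣ r := fun j p hp hpd =>
    (hp.dvd_or_dvd hpd).elim (hs1 p hp) hp.dvd_of_dvd_pow
  have hsn : ∀ j : ℕ, s * r ^ j ∣ a n * r ^ j := fun j =>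
    mul_dvd_mul_right (hsw ▸ dvd_mul_right s w) _
  obtain ⟨u, hu⟩ := exists_factor (r := r) (s := s) n a b
    (fun k => dvd_of_pow_dvd s hs hs1 _ fun π hπ hπr m hm =>
      (h.pow_dvd hr0 hπ hπr m).1 k (hm.trans (hsw ▸ dvd_mul_right s w)))
    (fun i hi => dvd_of_pow_dvd _ (mul_ne_zero hs (pow_ne_zero _ hr0)) (hprimes _) _
      fun π hπ hπr m hm => (h.pow_dvd hr0 hπ hπr m).2.1 i hi (hm.trans (hsn _)))
    (fun k => dvd_of_pow_dvd _ (mul_ne_zero hs (pow_ne_zero _ hr0)) (hprimes _) _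
      fun π hπ hπr m hm => (h.pow_dvd hr0 hπ hπr m).2.2 k (hm.trans (hsn _)))
  exact ⟨s, w, u, hsw, hs, hs1, hw, hu⟩

/-- Exchange of the variables. -/
noncomputable def flip (R : Type u) [CommRing R] :
    MvPowerSeries (Fin 2) R ≃ₐ[R] MvPowerSeries (Fin 2) R :=
  MvPowerSeries.renameEquiv R (Equiv.swap 0 1)

theorem flip_X (i : Fin 2) : flip R (X i) = X (1 - i) := by
  show rename (Equiv.swap (0 : Fin 2) 1) (X i) = _
  rw [rename_X]
  fin_cases i <;> rfl

theorem flip_C (z : R) : flip R (MvPowerSeries.C z) = MvPowerSeries.C z := (flip R).commutes z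

theorem flip_ser (i : Fin 2) (f : ℕ → R) : flip R (ser i f) = ser (1 - i) f := by
  ext d
  let e : Fin 2 ↪ Fin 2 := (Equiv.swap (0 : Fin 2) 1).toEmbedding
  obtain ⟨x, rfl⟩ : ∃ x : Fin 2 →₀ ℕ, Finsupp.embDomain e x = d :=
    ⟨Finsupp.equivMapDomain (Equiv.swap 0 1) d, Finsupp.ext fun j => by
      obtain ⟨j, rfl⟩ := (Equiv.swap (0 : Fin 2) 1).surjective j
      show Finsupp.embDomain e _ (e j) = _
      rw [Finsupp.embDomain_apply_self]
      fin_cases j <;> simp⟩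
  show coeff _ (rename e (ser i f)) = _
  rw [coeff_embDomain_rename, coeff_ser]
  show coeff x (ser i f) = _
  rw [coeff_ser, coeff_ser, show Finsupp.embDomain e x (1 - i) = x i from by
      rw [show (1 - i : Fin 2) = e i by fin_cases i <;> rfl, Finsupp.embDomain_apply_self],
    show Finsupp.embDomain e x (1 - (1 - i)) = x (1 - i) from by
      rw [show (1 - (1 - i) : Fin 2) = e (1 - i) by fin_cases i <;> rfl,
        Finsupp.embDomain_apply_self]]

theorem flip_rel : flip R (rel r) = rel r := by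
  rw [rel, map_sub, map_mul, flip_X, flip_X, flip_C]
  exact congrArg (· - MvPowerSeries.C r) (mul_comm _ _)

theorem flip_mem {f : MvPowerSeries (Fin 2) R} (h : f ∈ Ideal.span {rel r}) :
    flip R f ∈ Ideal.span {rel r} := by
  obtain ⟨g, rfl⟩ := Ideal.mem_span_singleton'.1 h
  rw [map_mul, flip_rel]
  exact Ideal.mul_mem_left _ _ (Ideal.mem_span_singleton_self _)

theorem flip_axes (a b : ℕ → R) :
    flip R (axes (fun m => if m = 0 then a 0 else b (m - 1)) (fun m => a (m + 1))) = axes a b := by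
  rw [axes, map_add, map_mul, flip_X, flip_ser, flip_ser,
    ser_succ (1 - 0) (fun m => if m = 0 then a 0 else b (m - 1))]
  simp only [Fin.isValue, show (1 - 0 : Fin 2) = 1 from rfl, show (1 - 1 : Fin 2) = 0 from rfl,
    Nat.succ_ne_zero, if_false, if_true, Nat.add_sub_cancel]
  rw [axes, ser_succ 0 a]
  ring

variable [IsNoetherianRing R] [IsLocalRing R] [IsAdicComplete (maximalIdeal R) R]

/-- Cancel a constant modulo `xy - r`. -/
theorem mem_of_C_mul {D : R} (hD : D ≠ 0) {h : MvPowerSeries (Fin 2) R}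
    (hh : MvPowerSeries.C D * h ∈ Ideal.span {rel r}) : h ∈ Ideal.span {rel r} := by
  revert hD h
  refine UniqueFactorizationMonoid.induction_on_prime D (fun hD => absurd rfl hD) ?_ ?_
  · intro u hu _ h hh
    obtain ⟨v, rfl⟩ := hu
    have := Ideal.mul_mem_left _ (MvPowerSeries.C (↑v⁻¹ : R)) hh
    rwa [← mul_assoc, ← map_mul, Units.inv_mul, map_one, one_mul] at this
  · intro D p hD' hp ih _ h hh
    rw [map_mul, mul_assoc] at hh
    exact ih hD' (mem_of_C_mul_mem hp _ hh)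

/-- The case where all primes of the constant divide `r`. -/
theorem core {c : R} (hr : r ∈ maximalIdeal R) (hr0 : r ≠ 0) (hc : c ≠ 0)
    (hprimes : ∀ p, Prime p → p ∣ c → p ∣ r) (f g : MvPowerSeries (Fin 2) R)
    (h : f * g - MvPowerSeries.C c ∈ Ideal.span {rel r}) :
    ∃ (s : R) (m n : ℕ) (u v : MvPowerSeries (Fin 2) R), m * n = 0 ∧
      u * v - 1 ∈ Ideal.span {rel r} ∧
      f - MvPowerSeries.C s * X 0 ^ n * X 1 ^ m * u ∈ Ideal.span {rel r} := by
  haveI : HenselianLocalRing R :=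
    Groth.Agent.Lib.Henselian.LocalRing.henselianLocalRing_of_henselianRing
  obtain ⟨a, b, hab⟩ := exists_axes (maximalIdeal R) hr f
  obtain ⟨a', b', hab'⟩ := exists_axes (maximalIdeal R) hr g
  let q := Ideal.Quotient.mk (Ideal.span {rel r})
  have hf : q f = q (axes a b) := Ideal.Quotient.eq.2 hab
  have hg : q g = q (axes a' b') := Ideal.Quotient.eq.2 hab'
  have h' : axes a b * axes a' b' - MvPowerSeries.C c ∈ Ideal.span {rel r} := by
    rw [← Ideal.Quotient.eq, map_mul, ← hf, ← hg, ← map_mul]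
    exact Ideal.Quotient.eq.2 h
  obtain ⟨M, hM⟩ := dvd_pow_of_primes c hc hprimes
  obtain ⟨n, hn⟩ := exists_degree hr hr0 hc hM h'
  have hd : HasDegree r a b n := fun π hπ hπr K hK => by
    obtain ⟨pt, hpt⟩ := hn π hπ hπr K hK
    exact ⟨pt, fun ϖ hϖ => ⟨(hpt ϖ hϖ).1.1, (hpt ϖ hϖ).2.1⟩⟩
  have hd' : HasDegree r a' b' (-n) := fun π hπ hπr K hK => by
    obtain ⟨pt, hpt⟩ := hn π hπ hπr K hK
    exact ⟨pt, fun ϖ hϖ => ⟨(hpt ϖ hϖ).1.2.1, (hpt ϖ hϖ).2.2.1⟩⟩
  obtain ⟨π₀, hπ₀, hπ₀r⟩ : ∃ p, Prime p ∧ p ∣ r := by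
    obtain ⟨p, hp, hpr⟩ := WfDvdMonoid.exists_irreducible_factor ((mem_maximalIdeal r).1 hr) hr0
    exact ⟨p, hp.prime, hpr⟩
  -- it suffices to treat the factor of non-negative degree
  have key : ∀ (a b a' b' : ℕ → R) (n : ℕ), HasDegree r a b n → HasDegree r a' b' (-(n : ℤ)) →
      axes a b * axes a' b' - MvPowerSeries.C c ∈ Ideal.span {rel r} →
      (∀ π, Prime π → π ∣ r → ∀ K : ℕ, 2 ≤ K → ∃ pt : Point r π K,
        Associated (tau pt.φ pt.x₀ pt.y₀ a b n * tau pt.φ pt.x₀ pt.y₀ a' b' (-(n : ℤ))) (pt.φ c)) →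
      ∃ (s s' : R) (u v : MvPowerSeries (Fin 2) R), u * v - 1 ∈ Ideal.span {rel r} ∧
        axes a b - MvPowerSeries.C s * X 0 ^ n * u ∈ Ideal.span {rel r} ∧
        axes a' b' - MvPowerSeries.C s' * X 1 ^ n * v ∈ Ideal.span {rel r} := by
    intro a b a' b' n hd hd' h hval
    let sw : ℕ → R := fun m => if m = 0 then a' 0 else b' (m - 1)
    have hd'' : HasDegree r sw (fun m => a' (m + 1)) n := by simpa using hd'.swap
    obtain ⟨pt₀, hpt₀⟩ := hd π₀ hπ₀ hπ₀r 2 le_rfl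
    obtain ⟨ϖ₀, hϖ₀⟩ := IsDiscreteValuationRing.exists_irreducible pt₀.V
    have han : a n ≠ 0 := fun h0 => (hpt₀ ϖ₀ hϖ₀).1.1 (by
      show pt₀.φ (a n) * pt₀.x₀ ^ n = 0
      rw [h0, map_zero, zero_mul])
    obtain ⟨pt₁, hpt₁⟩ := hd'' π₀ hπ₀ hπ₀r 2 le_rfl
    obtain ⟨ϖ₁, hϖ₁⟩ := IsDiscreteValuationRing.exists_irreducible pt₁.V
    have han' : sw n ≠ 0 := fun h0 => (hpt₁ ϖ₁ hϖ₁).1.1 (by
      show pt₁.φ (sw n) * pt₁.x₀ ^ n = 0
      rw [h0, map_zero, zero_mul])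
    obtain ⟨s, w, u, hsw, hs, hs1, hw, hu⟩ := hd.factor hr0 han
    obtain ⟨s', w', u', hsw', hs', hs1', hw', hu'⟩ := hd''.factor hr0 han'
    have hu'' : axes a' b' - MvPowerSeries.C s' * X 1 ^ n * flip R u' ∈ Ideal.span {rel r} := by
      have := flip_mem hu'
      rwa [map_sub, flip_axes, map_mul, map_mul, map_pow, flip_C, flip_X] at this
    let D := s * s' * r ^ n
    have hD : D ≠ 0 := mul_ne_zero (mul_ne_zero hs hs') (pow_ne_zero _ hr0)
    have hDprimes : ∀ p, Prime p → p ∣ D → p ∣ r := fun p hp hpd =>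
      (hp.dvd_or_dvd hpd).elim (fun h1 => (hp.dvd_or_dvd h1).elim (hs1 p hp) (hs1' p hp))
        hp.dvd_of_dvd_pow
    -- `D` and `c` have the same order at every prime of `r`
    have hsame : ∀ π, Prime π → π ∣ r → ∀ k : ℕ, π ^ k ∣ D ↔ π ^ k ∣ c := by
      intro π hπ hπr k
      obtain ⟨pt, hpt⟩ := hval π hπ hπr 2 le_rfl
      obtain ⟨δ, d, hd, hδ⟩ := WfDvdMonoid.max_power_factor hD hπ.irreducible
      obtain ⟨γ, c', hc', hγ⟩ := WfDvdMonoid.max_power_factor hc hπ.irreducible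
      have hτ : tau pt.φ pt.x₀ pt.y₀ a b n * tau pt.φ pt.x₀ pt.y₀ a' b' (-(n : ℤ)) =
          pt.φ D * pt.φ (w * w') := by
        have h2 : tau pt.φ pt.x₀ pt.y₀ a' b' (-(n : ℤ)) = pt.φ (sw n) * pt.y₀ ^ n := by
          rw [← tau_swap_neg]; rfl
        rw [h2, show tau pt.φ pt.x₀ pt.y₀ a b (n : ℤ) = pt.φ (a n) * pt.x₀ ^ n from rfl, hsw, hsw',
          mul_mul_mul_comm, ← mul_pow, pt.xy]
        simp only [D, map_mul, map_pow]
        ring
      have hww : ¬ π ∣ w * w' := fun h => (hπ.dvd_or_dvd h).elim (hw π hπ hπr) (hw' π hπ hπr)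
      rw [hτ] at hpt
      have h1 := ((pt.value hδ hd).symm.trans
        ((associated_mul_unit_right _ _ (pt.unit _ hww)).trans hpt)).trans (pt.value hγ hc')
      have hx : ¬ IsUnit pt.x₀ := (mem_maximalIdeal pt.x₀).1 pt.x_mem
      have hx0 := pt.x_ne_zero hπ.ne_zero (by omega)
      have hδγ : δ = γ := by
        have h2 := (pow_dvd_pow_iff hx0 hx).1 h1.dvd
        have h3 := (pow_dvd_pow_iff hx0 hx).1 h1.symm.dvd
        omega
      subst hδγ
      rw [hδ, hγ]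
      constructor
      · intro hk
        exact Dvd.dvd.mul_right (hπ.pow_dvd_of_dvd_mul_right k hd hk) c'
      · intro hk
        exact Dvd.dvd.mul_right (hπ.pow_dvd_of_dvd_mul_right k hc' hk) d
    obtain ⟨ε, hε⟩ : Associated D c := associated_of_dvd_dvd
      (dvd_of_pow_dvd D hD hDprimes c fun π hπ hπr k => (hsame π hπ hπr k).1)
      (dvd_of_pow_dvd c hc hprimes D fun π hπ hπr k => (hsame π hπ hπr k).2)
    have hcancel : MvPowerSeries.C D * (u * flip R u' - MvPowerSeries.C (ε : R)) ∈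
        Ideal.span {rel r} := by
      rw [mul_sub, ← map_mul, hε, ← Ideal.Quotient.eq]
      rw [← Ideal.Quotient.eq] at hu hu'' h
      rw [← h]
      simp only [map_mul]
      rw [hu, hu'']
      have hrel : Ideal.Quotient.mk (Ideal.span {rel r}) (MvPowerSeries.C r) =
          Ideal.Quotient.mk (Ideal.span {rel r}) (X 0 * X 1) :=
        (Ideal.Quotient.eq.2 (rel_symm r)).symm
      simp only [D, map_mul, map_pow, hrel]
      ring
    have huv := mem_of_C_mul hD hcancel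
    rw [← Ideal.Quotient.eq] at huv hu''
    refine ⟨s, s' * ε, u, flip R u' * MvPowerSeries.C (↑ε⁻¹ : R), ?_, hu, ?_⟩
    · rw [← Ideal.Quotient.eq]
      rw [← mul_assoc, map_mul, huv, ← map_mul, ← map_mul, Units.mul_inv, map_one, map_one]
    · rw [← Ideal.Quotient.eq, hu'']
      simp only [map_mul]
      have hεε : Ideal.Quotient.mk (Ideal.span {rel r}) (MvPowerSeries.C (ε : R)) *
          Ideal.Quotient.mk (Ideal.span {rel r}) (MvPowerSeries.C (↑ε⁻¹ : R)) = 1 := by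
        rw [← map_mul, ← map_mul, Units.mul_inv, map_one, map_one]
      linear_combination (-(Ideal.Quotient.mk (Ideal.span {rel r}) (MvPowerSeries.C s') *
          Ideal.Quotient.mk (Ideal.span {rel r}) (X 1 ^ n) *
          Ideal.Quotient.mk (Ideal.span {rel r}) (flip R u'))) * hεε
  have hpos : ∀ π, Prime π → π ∣ r → ∀ K : ℕ, 2 ≤ K → ∃ pt : Point r π K,
      Associated (tau pt.φ pt.x₀ pt.y₀ a b n * tau pt.φ pt.x₀ pt.y₀ a' b' (-n)) (pt.φ c) :=
    fun π hπ hπr K hK => by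
      obtain ⟨pt, hpt⟩ := hn π hπ hπr K hK
      obtain ⟨ϖ, hϖ⟩ := IsDiscreteValuationRing.exists_irreducible pt.V
      exact ⟨pt, (hpt ϖ hϖ).1.2.2⟩
  obtain ⟨N, hN⟩ : ∃ N : ℕ, n = N ∨ n = -(N : ℤ) := ⟨_, Int.natAbs_eq n⟩
  rcases hN with rfl | rfl
  · obtain ⟨s, s', u, v, huv, hu, hv⟩ := key a b a' b' N hd hd' h' hpos
    refine ⟨s, 0, N, u, v, zero_mul _, huv, ?_⟩
    rw [pow_zero, mul_one]
    rw [← Ideal.Quotient.eq] at hu ⊢
    exact hf.trans hu
  · rw [neg_neg] at hd'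
    have hm : axes a' b' * axes a b - MvPowerSeries.C c ∈ Ideal.span {rel r} := by
      rwa [mul_comm]
    obtain ⟨s, s', u, v, huv, hu, hv⟩ := key a' b' a b N hd' hd hm (fun π hπ hπr K hK => by
      obtain ⟨pt, hpt⟩ := hpos π hπ hπr K hK
      rw [neg_neg, mul_comm] at hpt
      exact ⟨pt, hpt⟩)
    refine ⟨s', N, 0, v, u, mul_zero _, ?_, ?_⟩
    · rwa [mul_comm]
    · rw [pow_zero, mul_one]
      rw [← Ideal.Quotient.eq] at hv ⊢
      exact hf.trans hv

end Groth.Agent.H24.NodeRing
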