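import Groth.Agent.H24.NodeRing.Dominant
import Groth.Agent.H24.NodeRing.Places
import Mathlib.FieldTheory.IsAlgClosed.AlgebraicClosure
import Mathlib.RingTheory.UniqueFactorizationDomain.Multiplicity

/-!
# The degree of an element dividing a non-zero constant

The roots of the truncated element fall in two classes that do not depend on a point: those inside
every small disc and those outside. Hence the degree of the dominant term is the same at all points.
-/

set_option autoImplicit false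
set_option linter.style.haveILetI false

universe u

open IsLocalRing Polynomial

namespace Groth.Agent.H24.NodeRing

variable {V : Type u} [CommRing V] {ϖ : V}

/-- A polynomial with a dominant term in degree `n`, up to a multiple of `ϖ`. -/
def Nice (ϖ : V) (n : ℕ) (P : V[X]) : Prop :=
  ∃ s : V, s ≠ 0 ∧ ∃ H : V[X], P = C s * (X ^ n + C ϖ * H)

theorem Nice.mul [IsDomain V] {n m : ℕ} {P P' : V[X]} (h : Nice ϖ n P) (h' : Nice ϖ m P') :
    Nice ϖ (n + m) (P * P') := by
  obtain ⟨s, hs, H, rfl⟩ := h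
  obtain ⟨s', hs', H', rfl⟩ := h'
  exact ⟨s * s', mul_ne_zero hs hs', X ^ n * H' + H * X ^ m + C ϖ * H * H', by
    rw [map_mul, pow_add]; ring⟩

theorem Nice.prod [IsDomain V] {ι : Type*} (s : Multiset ι) (f : ι → V[X]) (n : ℕ)
    (h : ∀ i ∈ s, Nice ϖ n (f i)) : Nice ϖ (Multiset.card s * n) (s.map f).prod := by
  induction s using Multiset.induction with
  | empty => exact ⟨1, one_ne_zero, 0, by simp⟩
  | cons a s ih =>
    rw [Multiset.map_cons, Multiset.prod_cons, Multiset.card_cons, Nat.succ_mul, Nat.add_comm]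
    exact (h a (by simp)).mul (ih fun i hi => h i (Multiset.mem_cons_of_mem hi))

theorem Nice.coeff [IsDomain V] [IsLocalRing V] (hϖ : ϖ ∈ maximalIdeal V) {n : ℕ} {P : V[X]}
    (h : Nice ϖ n P) : P.coeff n ≠ 0 ∧ ∀ k, k ≠ n → P.coeff n * ϖ ∣ P.coeff k := by
  obtain ⟨s, hs, H, rfl⟩ := h
  have hu : IsUnit (1 + ϖ * H.coeff n) := by
    by_contra hu
    have h1 := sub_mem ((mem_maximalIdeal _).2 hu) (Ideal.mul_mem_right (H.coeff n) _ hϖ)
    rw [add_sub_cancel_right] at h1
    exact (mem_maximalIdeal (1 : V)).1 h1 isUnit_one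
  have hn : (C s * (X ^ n + C ϖ * H)).coeff n = s * (1 + ϖ * H.coeff n) := by
    rw [coeff_C_mul, coeff_add, coeff_X_pow, if_pos rfl, coeff_C_mul]
  refine ⟨hn ▸ mul_ne_zero hs hu.ne_zero, fun k hk => ?_⟩
  rw [hn, coeff_C_mul, coeff_add, coeff_X_pow, if_neg hk, zero_add, coeff_C_mul, mul_assoc]
  refine mul_dvd_mul_left s ?_
  rw [hu.mul_left_dvd]
  exact Dvd.intro _ rfl

variable {R : Type u} [CommRing R]

/-- The truncated element as a polynomial. -/
noncomputable def poly (r : R) (a b : ℕ → R) (M : ℕ) : R[X] :=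
  ∑ k ∈ Finset.range (2 * M + 1), C (tau (RingHom.id R) 1 r a b ((k : ℤ) - M)) * X ^ k

theorem coeff_poly (r : R) (a b : ℕ → R) (M k : ℕ) :
    (poly r a b M).coeff k =
      if k < 2 * M + 1 then tau (RingHom.id R) 1 r a b ((k : ℤ) - M) else 0 := by
  rw [poly, finsetSum_coeff]
  simp only [coeff_C_mul_X_pow]
  rw [Finset.sum_ite_eq (Finset.range _) k]
  simp only [Finset.mem_range]

theorem map_coeff_poly (φ : R →+* V) {x₀ y₀ : V} {r : R} (hxy : x₀ * y₀ = φ r) (a b : ℕ → R)
    (M k : ℕ) (hk : k < 2 * M + 1) :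
    φ ((poly r a b M).coeff k) * x₀ ^ k = tau φ x₀ y₀ a b ((k : ℤ) - M) * x₀ ^ M := by
  rw [coeff_poly, if_pos hk]
  obtain ⟨i, hi⟩ : ∃ i : ℤ, (k : ℤ) - M = i := ⟨_, rfl⟩
  rw [hi]
  cases i with
  | ofNat m =>
    have : k = m + M := by simp only [Int.ofNat_eq_natCast] at hi; omega
    simp only [tau, RingHom.id_apply, one_pow, mul_one, this, pow_add]
    ring
  | negSucc m =>
    have : M = k + (m + 1) := by omega
    simp only [tau, RingHom.id_apply, map_mul, map_pow, ← hxy, this, pow_add, mul_pow]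
    ring

/-- Both sides of `Q · λ = Π · μ` have the same dominant degree. -/
theorem eq_of_nice [IsDomain V] [IsLocalRing V] (hϖ : ϖ ∈ maximalIdeal V) (φ : R →+* V) {x₀ y₀ : V}
    (hx : x₀ ≠ 0) {r : R} (hxy : x₀ * y₀ = φ r) (a b : ℕ → R) (M : ℕ) (n : ℤ) (hn : n.natAbs ≤ M)
    (hdom : Dom ϖ (tau φ x₀ y₀ a b) n) (P : V[X]) (N : ℕ) (hP : Nice ϖ N P) (s s' : V) (hs : s ≠ 0)
    (h : ((poly r a b M).map φ).comp (C x₀ * X) * C s = P * C s') : (N : ℤ) = n + M := by
  by_contra hne
  obtain ⟨k, hk⟩ : ∃ k : ℕ, n + M = k := ⟨(n + M).toNat, by omega⟩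
  have hk' : k < 2 * M + 1 := by omega
  have hcoef : ∀ j, φ ((poly r a b M).coeff j) * x₀ ^ j * s = P.coeff j * s' := by
    intro j
    have h1 := congrArg (fun Q : V[X] => Q.coeff j) h
    simp only [coeff_mul_C] at h1
    rw [← h1, comp_C_mul_X_coeff, coeff_map]
  obtain ⟨hPN, hPdvd⟩ := hP.coeff hϖ
  obtain ⟨w, hw⟩ := hPdvd k (by omega)
  have hA := hcoef k
  rw [map_coeff_poly φ hxy a b M k hk', show (k : ℤ) - M = n by omega, hw] at hA
  have hA0 : tau φ x₀ y₀ a b n * x₀ ^ M * s ≠ 0 :=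
    mul_ne_zero (mul_ne_zero hdom.1 (pow_ne_zero _ hx)) hs
  obtain ⟨z, hz⟩ : ∃ z, P.coeff N * s' = tau φ x₀ y₀ a b n * x₀ ^ M * s * (ϖ * z) := by
    rcases lt_or_ge N (2 * M + 1) with hN | hN
    · obtain ⟨z, hz⟩ := hdom.2 ((N : ℤ) - M) (by omega)
      refine ⟨z, ?_⟩
      rw [← hcoef N, map_coeff_poly φ hxy a b M N hN, hz]
      ring
    · refine ⟨0, ?_⟩
      rw [← hcoef N, coeff_poly, if_neg (by omega), map_zero]
      ring
  have h2 : tau φ x₀ y₀ a b n * x₀ ^ M * s * 1 =
      tau φ x₀ y₀ a b n * x₀ ^ M * s * (ϖ * (z * ϖ * w)) := by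
    rw [mul_one]
    conv_lhs => rw [hA]
    linear_combination (ϖ * w) * hz
  have h3 := mul_left_cancel₀ hA0 h2
  exact (mem_maximalIdeal ϖ).1 hϖ (IsUnit.of_mul_eq_one _ h3.symm)

variable [IsDomain R] [IsNoetherianRing R] [HenselianLocalRing R] [UniqueFactorizationMonoid R]

/-- A point over a prime element `π ∣ r` at which `x` is a `K`-th root of `π`. -/
structure Point (r π : R) (K : ℕ) where
  V : Type u
  [cr : CommRing V]
  [dom : IsDomain V]
  [dvr : IsDiscreteValuationRing V]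
  φ : R →+* V
  x₀ : V
  y₀ : V
  inj : Function.Injective φ
  x_mem : x₀ ∈ maximalIdeal V
  y_mem : y₀ ∈ maximalIdeal V
  xy : x₀ * y₀ = φ r
  x_pow : x₀ ^ K = φ π
  unit : ∀ w, ¬ π ∣ w → IsUnit (φ w)

attribute [instance] Point.cr Point.dom Point.dvr

/-- Points exist at which the images of finitely many integral elements are defined. -/
theorem exists_point {r π : R} (hπ : Prime π) (hπr : π ∣ r) {K : ℕ} (hK : 2 ≤ K)
    (Ω : Type u) [Field Ω] [IsAlgClosed Ω] [Algebra R Ω] [FaithfulSMul R Ω]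
    (T : Finset Ω) (hT : ∀ z ∈ T, IsIntegral R z) :
    ∃ (pt : Point r π K) (A : Type u) (_ : CommRing A) (f : A →+* Ω) (ψ : A →+* pt.V) (ι : R →+* A),
      f.comp ι = algebraMap R Ω ∧ ψ.comp ι = pt.φ ∧
      (∀ a, f a = 0 → ψ a = 0) ∧ (∀ a, ψ a = 0 → f a = 0) ∧ ∀ z ∈ T, z ∈ Set.range f := by
  classical
  obtain ⟨β, hβ⟩ := IsAlgClosed.exists_pow_nat_eq (algebraMap R Ω π) (n := K) (by omega)
  have hβi : IsIntegral R β := IsIntegral.of_pow (n := K) (by omega) (hβ ▸ isIntegral_algebraMap)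
  let T' : Finset Ω := insert β T
  have hT' : ∀ z ∈ T', IsIntegral R z := by
    intro z hz
    rcases Finset.mem_insert.1 hz with rfl | hz
    · exact hβi
    · exact hT z hz
  let R' := integralClosure R Ω
  let A := MvPolynomial T' R
  let g : A →ₐ[R] R' := MvPolynomial.aeval fun z : T' => (⟨z.1, hT' z.1 z.2⟩ : R')
  let f : A →+* Ω := (R'.val.comp g).toRingHom
  have hfX : ∀ z : T', f (MvPolynomial.X z) = z.1 := fun z =>
    congrArg Subtype.val (MvPolynomial.aeval_X _ z)
  have hfC : ∀ a : R, f (MvPolynomial.C a) = algebraMap R Ω a := fun a => (R'.val.comp g).commutes a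
  haveI : (Ideal.span {π}).IsPrime := (Ideal.span_singleton_prime hπ.ne_zero).2 hπ
  have hker' : RingHom.ker (algebraMap R R') ≤ Ideal.span {π} := by
    intro a ha
    have h1 : algebraMap R Ω a = 0 := congrArg Subtype.val (RingHom.mem_ker.1 ha)
    rw [(map_eq_zero_iff _ (FaithfulSMul.algebraMap_injective R Ω)).1 h1]
    exact zero_mem _
  obtain ⟨Q, hQ, hQc⟩ :=
    Ideal.exists_ideal_over_prime_of_isIntegral_of_isDomain (S := R') (Ideal.span {π}) hker'
  haveI := hQ
  let P := Q.comap g.toRingHom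
  have hlt : RingHom.ker f < P := by
    refine lt_of_le_not_ge (fun a ha => ?_) fun hle => ?_
    · show g a ∈ Q
      rw [show g a = 0 from Subtype.ext ha]
      exact zero_mem _
    · have hmem : (MvPolynomial.C π : A) ∈ P := by
        show g (MvPolynomial.C π) ∈ Q
        rw [show g (MvPolynomial.C π) = algebraMap R R' π from g.commutes π, ← Ideal.mem_comap, hQc]
        exact Ideal.mem_span_singleton_self π
      have := RingHom.mem_ker.1 (hle hmem)
      rw [hfC] at this
      exact hπ.ne_zero ((map_eq_zero_iff _ (FaithfulSMul.algebraMap_injective R Ω)).1 this)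
  obtain ⟨V, _, _, _, ψ, hker, hP⟩ := exists_place f P hlt
  have hmax : ∀ a : A, ψ a ∈ maximalIdeal V ↔ g a ∈ Q := fun a => by
    rw [← Ideal.mem_comap, hP]; rfl
  have hz : ∀ a : A, ψ a = 0 ↔ f a = 0 := fun a => by
    rw [← RingHom.mem_ker, hker, RingHom.mem_ker]
  let φ : R →+* V := ψ.comp MvPolynomial.C
  obtain ⟨r₁, rfl⟩ := hπr
  let xA : A := MvPolynomial.X ⟨β, Finset.mem_insert_self _ _⟩
  have hxpow : ψ xA ^ K = φ π := by
    rw [← map_pow, ← sub_eq_zero, RingHom.comp_apply, ← map_sub, hz, map_sub, map_pow, hfX, hfC, hβ,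
      sub_self]
  have hφπ : φ π ∈ maximalIdeal V := by
    rw [RingHom.comp_apply, hmax, show g (MvPolynomial.C π) = algebraMap R R' π from g.commutes π,
      ← Ideal.mem_comap, hQc]
    exact Ideal.mem_span_singleton_self π
  have hxm : ψ xA ∈ maximalIdeal V :=
    (maximalIdeal.isMaximal V).isPrime.mem_of_pow_mem K (hxpow ▸ hφπ)
  let pt : Point (π * r₁) π K :=
    { V := V
      φ := φ
      x₀ := ψ xA
      y₀ := ψ xA ^ (K - 1) * φ r₁
      inj := (injective_iff_map_eq_zero _).2 fun a ha => by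
        have := (hz _).1 ha
        rw [hfC] at this
        exact (map_eq_zero_iff _ (FaithfulSMul.algebraMap_injective R Ω)).1 this
      x_mem := hxm
      y_mem := Ideal.mul_mem_right _ _ (Ideal.pow_mem_of_mem _ hxm _ (by omega))
      xy := by rw [← mul_assoc, ← pow_succ', Nat.sub_add_cancel (by omega), hxpow, map_mul]
      x_pow := hxpow
      unit := fun w hw => by
        refine IsLocalRing.notMem_maximalIdeal.1 fun hmem => hw ?_
        rw [RingHom.comp_apply, hmax, show g (MvPolynomial.C w) = algebraMap R R' w from g.commutes w,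
          ← Ideal.mem_comap, hQc, Ideal.mem_span_singleton] at hmem
        exact hmem }
  refine ⟨pt, A, inferInstance, f, ψ, MvPolynomial.C, RingHom.ext hfC, rfl, fun a => (hz a).2,
    fun a => (hz a).1, fun z hz' => ⟨MvPolynomial.X ⟨z, Finset.mem_insert_of_mem hz'⟩, hfX _⟩⟩

variable {r c : R} {a b a' b' : ℕ → R} {M : ℕ}

theorem dom_natAbs_le {V : Type u} [CommRing V] [IsDomain V] [IsDiscreteValuationRing V]
    (φ : R →+* V) {x₀ y₀ : V} (hφ : Function.Injective φ) (hr0 : r ≠ 0) (hx : x₀ ∈ maximalIdeal V)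
    (hxy : x₀ * y₀ = φ r) (hcM : c ∣ r ^ M) {n : ℤ}
    (hass : Associated (tau φ x₀ y₀ a b n * tau φ x₀ y₀ a' b' (-n)) (φ c)) : n.natAbs ≤ M := by
  have hu : ¬ IsUnit (φ r) := fun h =>
    (mem_maximalIdeal x₀).1 hx (isUnit_of_mul_isUnit_left (hxy ▸ h))
  refine (pow_dvd_pow_iff ((map_ne_zero_iff φ hφ).2 hr0) hu).1 ?_
  refine dvd_trans ?_ (hass.dvd.trans ((map_dvd φ hcM).trans (map_pow φ r M).dvd))
  rw [← hxy, mul_pow]
  cases n with
  | ofNat m =>
    cases m with
    | zero => simp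
    | succ m =>
      refine mul_dvd_mul (Dvd.intro_left _ rfl) ?_
      show y₀ ^ (m + 1) ∣ _
      exact Dvd.intro_left _ rfl
  | negSucc m =>
    rw [mul_comm (x₀ ^ _)]
    refine mul_dvd_mul (Dvd.intro_left _ rfl) ?_
    show x₀ ^ (m + 1) ∣ _
    exact Dvd.intro_left _ rfl

/-- The dominant degree is the same at all points over primes dividing `r`. -/
theorem exists_degree (hr : r ∈ maximalIdeal R) (hr0 : r ≠ 0) (hc : c ≠ 0) (hcM : c ∣ r ^ M)
    (h : axes a b * axes a' b' - MvPowerSeries.C c ∈ Ideal.span {rel r}) :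
    ∃ n : ℤ, ∀ π : R, Prime π → π ∣ r → ∀ K : ℕ, 2 ≤ K → ∃ pt : Point r π K,
      ∀ ϖ : pt.V, Irreducible ϖ →
        (Dom ϖ (tau pt.φ pt.x₀ pt.y₀ a b) n ∧ Dom ϖ (tau pt.φ pt.x₀ pt.y₀ a' b') (-n) ∧
          Associated (tau pt.φ pt.x₀ pt.y₀ a b n * tau pt.φ pt.x₀ pt.y₀ a' b' (-n)) (pt.φ c)) ∧
        (Dom ϖ (tau pt.φ pt.y₀ pt.x₀ a b) n ∧ Dom ϖ (tau pt.φ pt.y₀ pt.x₀ a' b') (-n) ∧
          Associated (tau pt.φ pt.y₀ pt.x₀ a b n * tau pt.φ pt.y₀ pt.x₀ a' b' (-n)) (pt.φ c)) := by
  classical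
  let Ω := AlgebraicClosure (FractionRing R)
  haveI : FaithfulSMul R Ω := (faithfulSMul_iff_algebraMap_injective R Ω).2 (by
    rw [IsScalarTower.algebraMap_eq R (FractionRing R) Ω]
    exact (algebraMap (FractionRing R) Ω).injective.comp (IsFractionRing.injective R (FractionRing R)))
  have hrΩ : algebraMap R Ω r ≠ 0 := (map_ne_zero_iff _ (FaithfulSMul.algebraMap_injective R Ω)).2 hr0
  let Q := poly r a b M
  -- no root is at once small and has small cofactor
  have hdich : ∀ θ : Ω, θ ≠ 0 → (Q.map (algebraMap R Ω)).eval θ = 0 →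
      IsIntegral R θ⁻¹ ∨ IsIntegral R (θ / algebraMap R Ω r) := by
    intro θ hθ hev
    rcases integral_or_small hr hr0 θ hθ with h1 | h1 | h1
    · exact Or.inl h1
    · exact Or.inr h1
    exfalso
    let f : MvPolynomial (Fin 2) R →+* Ω :=
      (MvPolynomial.aeval ![θ, algebraMap R Ω r / θ]).toRingHom
    let P : Ideal (MvPolynomial (Fin 2) R) := (maximalIdeal R).comap MvPolynomial.constantCoeff
    have hlt : RingHom.ker f < P := by
      refine lt_of_le_not_ge (fun F hF => h1 F hF) fun hle => hθ ?_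
      have hX : (MvPolynomial.X 0 : MvPolynomial (Fin 2) R) ∈ P := by simp [P]
      simpa [f] using RingHom.mem_ker.1 (hle hX)
    haveI : P.IsPrime := Ideal.IsPrime.comap _
    obtain ⟨V, _, _, _, ψ, hker, hP⟩ := exists_place f P hlt
    obtain ⟨ϖ, hϖ⟩ := IsDiscreteValuationRing.exists_irreducible V
    let φ := ψ.comp MvPolynomial.C
    let x := ψ (MvPolynomial.X 0)
    let y := ψ (MvPolynomial.X 1)
    have hmem : ∀ i, ψ (MvPolynomial.X i) ∈ maximalIdeal V := fun i => by
      rw [← Ideal.mem_comap, hP]; simp [P]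
    have hz : ∀ F, ψ F = 0 ↔ f F = 0 := fun F => by rw [← RingHom.mem_ker, hker, RingHom.mem_ker]
    have hxy : x * y = φ r := by
      rw [← sub_eq_zero, RingHom.comp_apply, ← map_mul, ← map_sub, hz]
      simp [f, mul_div_cancel₀ _ hθ]
    have hφ : Function.Injective φ := (injective_iff_map_eq_zero _).2 fun z hz' => by
      have := (hz _).1 hz'
      exact (map_eq_zero_iff _ (FaithfulSMul.algebraMap_injective R Ω)).1 (by simpa [f] using this)
    obtain ⟨n, hn, -, hass⟩ := exists_dom φ x y hϖ (hmem 0) (hmem 1) hxy a b a' b' c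
      ((map_ne_zero_iff φ hφ).2 hc) h
    have hnM := dom_natAbs_le φ hφ hr0 (hmem 0) hxy hcM hass
    have hQ : (Q.map φ).eval x = 0 := by
      have h2 : ψ (Q.eval₂ MvPolynomial.C (MvPolynomial.X 0)) = 0 := by
        rw [hz, Polynomial.hom_eval₂, show f.comp MvPolynomial.C = algebraMap R Ω from
          RingHom.ext fun z => by simp [f], show f (MvPolynomial.X 0) = θ by simp [f],
          ← Polynomial.eval_map]
        exact hev
      rw [Polynomial.hom_eval₂, ← Polynomial.eval_map] at h2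
      exact h2
    rw [Polynomial.eval_eq_sum_range' (n := 2 * M + 1)] at hQ
    swap
    · refine (natDegree_map_le.trans_lt ?_)
      refine Nat.lt_succ_of_le (natDegree_sum_le_of_forall_le _ _ fun k hk => ?_)
      exact (natDegree_C_mul_X_pow_le _ _).trans (by simp at hk; omega)
    rw [Finset.sum_congr rfl fun k hk => show (Q.map φ).coeff k * x ^ k =
        tau φ x y a b ((k : ℤ) - M) * x ^ M by
      rw [coeff_map]; exact map_coeff_poly φ hxy a b M k (Finset.mem_range.1 hk),
      ← Finset.sum_mul] at hQ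
    have hx0 : x ≠ 0 := fun h0 => hθ (by simpa [f] using (hz _).1 h0)
    have hsum := (mul_eq_zero.1 hQ).resolve_right (pow_ne_zero M hx0)
    obtain ⟨k₀, hk₀⟩ : ∃ k₀ : ℕ, n + M = k₀ := ⟨(n + M).toNat, by omega⟩
    rw [← Finset.add_sum_erase _ _ (Finset.mem_range.2 (by omega : k₀ < 2 * M + 1)),
      show (k₀ : ℤ) - M = n by omega] at hsum
    have hdvd : tau φ x y a b n * ϖ ∣ tau φ x y a b n * 1 := by
      rw [mul_one, eq_neg_of_add_eq_zero_left hsum, dvd_neg]
      refine Finset.dvd_sum fun k hk => ?_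
      have hne : (k : ℤ) - M ≠ n := fun hkn => (Finset.mem_erase.1 hk).1 (by omega)
      rw [← eq_neg_of_add_eq_zero_left hsum]
      exact hn.2 _ hne
    exact hϖ.not_isUnit (isUnit_of_dvd_one ((mul_dvd_mul_iff_left hn.1).1 hdvd))
  let roots := (Q.map (algebraMap R Ω)).roots
  let ins := roots.filter fun θ => IsIntegral R (θ / algebraMap R Ω r)
  let out := roots.filter fun θ => ¬ IsIntegral R (θ / algebraMap R Ω r)
  refine ⟨(Multiset.card ins : ℤ) - M, fun π hπ hπr K hK => ?_⟩
  have hins : ∀ θ ∈ ins, IsIntegral R (θ / algebraMap R Ω r) := fun θ hθ => (Multiset.mem_filter.1 hθ).2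
  have hout : ∀ θ ∈ out, θ ≠ 0 ∧ IsIntegral R θ⁻¹ := by
    intro θ hθ
    obtain ⟨hroot, hni⟩ := Multiset.mem_filter.1 hθ
    have h0 : θ ≠ 0 := fun h0 => hni (by rw [h0, zero_div]; exact isIntegral_zero)
    exact ⟨h0, (hdich θ h0 (Polynomial.isRoot_of_mem_roots hroot)).resolve_right hni⟩
  let T : Finset Ω := (ins.map fun θ => θ / algebraMap R Ω r).toFinset ∪
    (out.map fun θ => θ⁻¹).toFinset
  have hT : ∀ z ∈ T, IsIntegral R z := by
    intro z hz
    simp only [T, Finset.mem_union, Multiset.mem_toFinset, Multiset.mem_map] at hz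
    rcases hz with ⟨θ, hθ, rfl⟩ | ⟨θ, hθ, rfl⟩
    · exact hins θ hθ
    · exact (hout θ hθ).2
  obtain ⟨pt, A, _, f, ψ, ι, hfι, hψι, hz1, hz2, hrange⟩ := exists_point hπ hπr hK Ω T hT
  refine ⟨pt, fun ϖ hϖ => ?_⟩
  have hwmem : ϖ ∈ maximalIdeal pt.V := hϖ.maximalIdeal_eq ▸ Ideal.mem_span_singleton_self ϖ
  let pre : Ω → A := Function.invFun f
  have hpre : ∀ z ∈ T, f (pre z) = z := fun z hz => Function.invFun_eq (hrange z hz)
  let Pin : Multiset (A[X]) :=
    ins.map fun θ => X - C (ι r * pre (θ / algebraMap R Ω r))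
  let Pout : Multiset (A[X]) := out.map fun θ => 1 - C (pre θ⁻¹) * X
  let Pi : A[X] := Pin.prod * Pout.prod
  have hPi : Pi.map f = (ins.map fun θ => X - C θ).prod * (out.map fun θ => 1 - C θ⁻¹ * X).prod := by
    simp only [Pi, Pin, Pout, Polynomial.map_mul, Polynomial.map_multiset_prod, Multiset.map_map]
    congr 1
    · refine congrArg Multiset.prod (Multiset.map_congr rfl fun θ hθ => ?_)
      simp only [Function.comp_apply, Polynomial.map_sub, Polynomial.map_X, Polynomial.map_C]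
      rw [map_mul f, hpre _ (Finset.mem_union_left _ (Multiset.mem_toFinset.2 (Multiset.mem_map_of_mem _ hθ))),
        ← RingHom.comp_apply, hfι, mul_div_cancel₀ _ hrΩ]
    · refine congrArg Multiset.prod (Multiset.map_congr rfl fun θ hθ => ?_)
      simp only [Function.comp_apply, Polynomial.map_sub, Polynomial.map_one, Polynomial.map_mul,
        Polynomial.map_X, Polynomial.map_C]
      rw [hpre _ (Finset.mem_union_right _ (Multiset.mem_toFinset.2 (Multiset.mem_map_of_mem _ hθ)))]
  -- `Q` is a multiple of this product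
  obtain ⟨lam, hlam⟩ : ∃ lam : Ω, Q.map (algebraMap R Ω) = C lam * Pi.map f := by
    refine ⟨(Q.map (algebraMap R Ω)).leadingCoeff * (out.map fun θ => -θ).prod, ?_⟩
    rw [hPi]
    conv_lhs => rw [(IsAlgClosed.splits (Q.map (algebraMap R Ω))).eq_prod_roots]
    show C _ * (roots.map fun θ => X - C θ).prod = _
    rw [← Multiset.filter_add_not (fun θ => IsIntegral R (θ / algebraMap R Ω r)) roots,
      Multiset.map_add, Multiset.prod_add]
    show C _ * ((ins.map fun θ => X - C θ).prod * (out.map fun θ => X - C θ).prod) = _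
    have hout' : (out.map fun θ => X - C θ).prod =
        C (out.map fun θ => -θ).prod * (out.map fun θ => 1 - C θ⁻¹ * X).prod := by
      rw [map_multiset_prod (C : Ω →+* Polynomial Ω), Multiset.map_map, ← Multiset.prod_map_mul]
      refine congrArg Multiset.prod (Multiset.map_congr rfl fun θ hθ => ?_)
      have hθ0 := (hout θ hθ).1
      simp only [Function.comp_apply, map_neg, mul_sub, mul_one, ← mul_assoc, neg_mul, ← map_mul,
        mul_inv_cancel₀ hθ0, map_one, one_mul]
      ring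
    rw [hout', map_mul]
    ring
  have hswap : ∀ x y : pt.V, x ∈ maximalIdeal pt.V → y ∈ maximalIdeal pt.V → x * y = pt.φ r →
      Dom ϖ (tau pt.φ x y a b) ((Multiset.card ins : ℤ) - M) ∧
        Dom ϖ (tau pt.φ x y a' b') (-((Multiset.card ins : ℤ) - M)) ∧
        Associated (tau pt.φ x y a b ((Multiset.card ins : ℤ) - M) *
          tau pt.φ x y a' b' (-((Multiset.card ins : ℤ) - M))) (pt.φ c) := by
    intro x y hx hy hxy
    obtain ⟨n, hn1, hn2, hn3⟩ := exists_dom pt.φ x y hϖ hx hy hxy a b a' b' c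
      ((map_ne_zero_iff _ pt.inj).2 hc) h
    have hnM := dom_natAbs_le pt.φ pt.inj hr0 hx hxy hcM hn3
    suffices (Multiset.card ins : ℤ) = n + M by
      rw [show (Multiset.card ins : ℤ) - M = n by omega]; exact ⟨hn1, hn2, hn3⟩
    have hx0 : x ≠ 0 := fun h0 => hr0 (pt.inj (by rw [← hxy, h0, zero_mul, map_zero]))
    -- the dominant term of the product
    have hnice : Nice ϖ (Multiset.card ins) ((Pi.map ψ).comp (C x * X)) := by
      simp only [Pi, Pin, Pout, Polynomial.map_mul, Polynomial.map_multiset_prod, mul_comp,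
        Multiset.map_map, multiset_prod_comp]
      rw [← Nat.mul_one (Multiset.card ins), ← Nat.add_zero (Multiset.card ins * 1)]
      refine Nice.mul (Nice.prod _ _ 1 fun θ _ => ?_) ?_
      · simp only [Function.comp_apply, Polynomial.map_sub, Polynomial.map_X, Polynomial.map_C,
          sub_comp, X_comp, mul_comp, C_comp]
        rw [map_mul ψ, ← RingHom.comp_apply ψ ι, hψι, ← hxy]
        rw [hϖ.maximalIdeal_eq, Ideal.mem_span_singleton] at hy
        obtain ⟨y', rfl⟩ := hy
        exact ⟨x, hx0, -C (y' * ψ (pre (θ / algebraMap R Ω r))), by simp only [map_mul]; ring⟩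
      · have hout1 : ∀ θ ∈ out, Nice ϖ 0
            ((((fun p : Polynomial A => p.map ψ) ∘ fun θ => 1 - C (pre θ⁻¹) * X) θ).comp (C x * X)) := by
          intro θ _
          simp only [Function.comp_apply, Polynomial.map_sub, Polynomial.map_one, Polynomial.map_mul,
            Polynomial.map_X, Polynomial.map_C, sub_comp, one_comp, mul_comp, C_comp, X_comp]
          rw [hϖ.maximalIdeal_eq, Ideal.mem_span_singleton] at hx
          obtain ⟨x', rfl⟩ := hx
          exact ⟨1, one_ne_zero, -C (ψ (pre θ⁻¹) * x') * X, by simp only [map_mul, map_one]; ring⟩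
        have := Nice.prod out _ 0 hout1
        rw [Nat.mul_zero] at this
        exact this
    -- a non-vanishing coefficient of the product
    obtain ⟨hN, -⟩ := hnice.coeff hwmem
    rw [comp_C_mul_X_coeff, coeff_map] at hN
    let j := Multiset.card ins
    have heq : (Q.map ι) * C (Pi.coeff j) - Pi * C (ι (Q.coeff j)) ∈
        RingHom.ker (Polynomial.mapRingHom f) := by
      rw [RingHom.mem_ker, coe_mapRingHom, Polynomial.map_sub, Polynomial.map_mul, Polynomial.map_mul,
        Polynomial.map_map, hfι, Polynomial.map_C, Polynomial.map_C, ← RingHom.comp_apply f ι, hfι,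
        ← Polynomial.coeff_map f, ← Polynomial.coeff_map (algebraMap R Ω), hlam, coeff_C_mul, map_mul]
      ring
    have heq' : (Q.map pt.φ) * C (ψ (Pi.coeff j)) = Pi.map ψ * C (pt.φ (Q.coeff j)) := by
      rw [← sub_eq_zero]
      ext k
      have hk := congrArg (fun P : Polynomial Ω => P.coeff k) (RingHom.mem_ker.1 heq)
      simp only [coe_mapRingHom, coeff_map, Polynomial.coeff_zero] at hk
      have := hz1 _ hk
      simpa only [coeff_sub, coeff_mul_C, coeff_map, map_sub, map_mul, coeff_zero, ← hψι,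
        RingHom.comp_apply] using this
    have heq'' := congrArg (fun P => P.comp (C x * X)) heq'
    simp only [mul_comp, C_comp] at heq''
    exact eq_of_nice hwmem pt.φ hx0 hxy a b M n hnM hn1 _ _ hnice _ _
      (left_ne_zero_of_mul hN) heq''
  exact ⟨hswap pt.x₀ pt.y₀ pt.x_mem pt.y_mem pt.xy,
    hswap pt.y₀ pt.x₀ pt.y_mem pt.x_mem (by rw [mul_comm, pt.xy])⟩

end Groth.Agent.H24.NodeRing
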